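import Cfsg.Agent.Lib.A9Split79.Six
import Cfsg.Agent.Lib.A9Norm79.CentA
import Cfsg.Agent.Lib.A9Norm79.VirtualII

/-!
# The embedding of the normaliser of a single three-cycle
-/

set_option autoImplicit false

namespace Cfsg.Agent.Lib.A9Split79

open Equiv A9Norm79 A9Norm79.Model A9Norm79.ModelII
open scoped Pointwise

universe u

/-- The configuration with a large centraliser of the three-cycle. -/
structure Big (G : Type u) [Group G] [Finite G] where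
  C : Cfg G
  fused : IsConj C.r C.z
  K : Subgroup G
  le : K ≤ Subgroup.centralizer ({C.j (1, 0, 0)} : Set G)
  iso : Nonempty (K ≃* A6)
  inf : Subgroup.zpowers (C.j (1, 0, 0)) ⊓ K = ⊥
  sup : Subgroup.zpowers (C.j (1, 0, 0)) ⊔ K = Subgroup.centralizer ({C.j (1, 0, 0)} : Set G)

/-- The index of the outer involution. -/
def wt : W := ((0, 0, 0), (3, 0))

/-- The index of the element of order four. -/
def wq : W := ((0, 0, 0), (3, 3))

/-- The index of the inner involution. -/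
def wi : W := ((0, 0, 0), (1, 0))

theorem wt_facts : el wt = swap 1 2 * swap 4 5 ∧ el wt * el wt = 1 ∧
    el wt * jel (1, 0, 0) * (el wt)⁻¹ = (jel (1, 0, 0))⁻¹ := by decide +kernel

theorem comm_facts : el wq * jel (1, 0, 0) = jel (1, 0, 0) * el wq ∧
    el wi * jel (1, 0, 0) = jel (1, 0, 0) * el wi ∧ el wq ^ 4 = 1 ∧ el wi * el wi = 1 ∧
    el wq * el wq = el wi ∧
    el wi * jel (0, 1, 0) * (el wi)⁻¹ = (jel (0, 1, 0))⁻¹ ∧
    el wi * jel (0, 0, 1) * (el wi)⁻¹ = (jel (0, 0, 1))⁻¹ ∧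
    el wq * jel (0, 1, 0) * (el wq)⁻¹ = jel (0, 0, 1) ∧
    el wq * jel (0, 0, 1) * (el wq)⁻¹ = (jel (0, 1, 0))⁻¹ := by decide +kernel

theorem six_side : i6 * b6 * i6⁻¹ = b6⁻¹ ∧ i6 * c6 * i6⁻¹ = c6⁻¹ ∧ q6 * c6 * q6⁻¹ = b6⁻¹ ∧
    t6 * (b6 : Perm (Fin 6)) * t6⁻¹ = ((b6⁻¹ : A6) : Perm (Fin 6)) ∧
    t6 * (c6 : Perm (Fin 6)) * t6⁻¹ = (c6 : Perm (Fin 6)) ∧
    t6 * (i6 : Perm (Fin 6)) * t6⁻¹ = (i6 : Perm (Fin 6)) := by
  decide +kernel

theorem conj_wt : el wt * jel (0, 1, 0) * (el wt)⁻¹ = (jel (0, 1, 0))⁻¹ ∧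
    el wt * jel (0, 0, 1) * (el wt)⁻¹ = jel (0, 0, 1) ∧
    el wt * el wi * (el wt)⁻¹ = el wi ∧
    ∃ x : Fin 3 × Fin 3 × Fin 4, el wt * el wq * (el wt)⁻¹ =
        cb ^ (x.1 : ℕ) * cc ^ (x.2.1 : ℕ) * el wq ^ (x.2.2 : ℕ) ∧
      t6 * (q6 : Perm (Fin 6)) * t6⁻¹ =
        ((b6 ^ (x.1 : ℕ) * c6 ^ (x.2.1 : ℕ) * q6 ^ (x.2.2 : ℕ) : A6) : Perm (Fin 6)) := by
  decide +kernel

theorem jel_pow_fst : ∀ i : Fin 3, jel (1, 0, 0) ^ (i : ℕ) = jel (i, 0, 0) := by decide +kernel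

namespace Big

variable {G : Type u} [Group G] [Finite G] (D : Big G)

/-- The single three-cycle. -/
def a : G := D.C.j (1, 0, 0)

theorem a_pow : D.a ^ 3 = 1 := D.C.J_pow _ (D.C.j_mem _)

theorem zpow_eq (n : ℤ) : ∃ i : Fin 3, D.a ^ n = D.a ^ (i : ℕ) :=
  ⟨⟨(n % 3).toNat, by omega⟩, by
    show D.a ^ n = D.a ^ (n % 3).toNat
    conv_lhs => rw [← Int.mul_ediv_add_emod n 3, zpow_add, zpow_mul]
    rw [show D.a ^ (3 : ℤ) = 1 by exact_mod_cast D.a_pow, one_zpow, one_mul, ← zpow_natCast,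
      Int.toNat_of_nonneg (Int.emod_nonneg n (by norm_num))]⟩

theorem comm_a {k : G} (hk : k ∈ D.K) : Commute D.a k :=
  (Subgroup.mem_centralizer_singleton_iff.mp (D.le hk)).symm

theorem decomp {x : G} (hx : x ∈ Subgroup.centralizer ({D.a} : Set G)) :
    ∃ i : Fin 3, ∃ k ∈ D.K, x = D.a ^ (i : ℕ) * k := by
  have hn : Subgroup.zpowers D.a ≤ Subgroup.normalizer (D.K : Set G) := by
    rw [Subgroup.zpowers_le, Subgroup.mem_normalizer_iff]
    intro k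
    constructor
    · intro hk
      rwa [(D.comm_a hk).eq, mul_inv_cancel_right]
    · intro hk
      have e := (D.comm_a hk).eq
      have : D.a * k * D.a⁻¹ = k := by
        calc D.a * k * D.a⁻¹ = D.a⁻¹ * (D.a * (D.a * k * D.a⁻¹)) := by group
          _ = D.a⁻¹ * (D.a * k * D.a⁻¹ * D.a) := by rw [e]
          _ = D.a⁻¹ * (D.a * k) := by group
          _ = k := by group
      rwa [this] at hk
  have hc : x ∈ ((Subgroup.zpowers D.a : Set G) * (D.K : Set G)) := by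
    rw [← Subgroup.coe_mul_of_left_le_normalizer_right _ _ hn]
    rw [show Subgroup.zpowers D.a ⊔ D.K = _ from D.sup]
    exact hx
  obtain ⟨y, hy, k, hk, rfl⟩ := hc
  obtain ⟨n, rfl⟩ := Subgroup.mem_zpowers_iff.mp hy
  obtain ⟨i, hi⟩ := D.zpow_eq n
  exact ⟨i, k, hk, by rw [hi]⟩

theorem pow_a_mem {i : Fin 3} (h : D.a ^ (i : ℕ) ∈ D.K) : i = 0 := by
  have h' := Subgroup.mem_inf.mpr ⟨Subgroup.npow_mem_zpowers D.a (i : ℕ), h⟩
  rw [show Subgroup.zpowers D.a ⊓ D.K = ⊥ from D.inf, Subgroup.mem_bot] at h'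
  by_contra hi
  have : D.C.j (i, 0, 0) = 1 := by
    rw [← h', a, D.C.j_pow (jel_pow_fst i)]
  rw [← D.C.j_zero] at this
  exact hi (Prod.ext_iff.mp (D.C.j_injective this)).1

theorem mem_of_pow_four {x : G} (hx : x ∈ Subgroup.centralizer ({D.a} : Set G)) (h : x ^ 4 = 1) :
    x ∈ D.K := by
  obtain ⟨i, k, hk, rfl⟩ := D.decomp hx
  rw [((D.comm_a hk).pow_left _).mul_pow, ← pow_mul, pow_mul', pow_succ D.a 3, D.a_pow,
    one_mul] at h
  have : i = 0 := D.pow_a_mem (by rw [eq_inv_of_mul_eq_one_left h]; exact inv_mem (pow_mem hk 4))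
  subst this
  rw [Fin.val_zero, pow_zero, one_mul]
  exact hk

theorem E_mem_centralizer {w : W} (h : el w * jel (1, 0, 0) = jel (1, 0, 0) * el w) :
    D.C.E w ∈ Subgroup.centralizer ({D.a} : Set G) := by
  rw [Subgroup.mem_centralizer_singleton_iff, a, Cfg.j, Cfg.E_comm_iff, el_base]
  exact h

/-- A relation of the model holds in `G`. -/
theorem E_rel {u v w : W} (h : el u * el v * (el u)⁻¹ = el w) :
    D.C.E u * D.C.E v * (D.C.E u)⁻¹ = D.C.E w := by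
  rw [mul_inv_eq_iff_eq_mul, ← Cfg.E_mulW, ← Cfg.E_mulW]
  refine congrArg D.C.φ (Subtype.ext ?_)
  show el _ = el _
  rw [el_mulW, el_mulW, ← mul_inv_eq_iff_eq_mul]
  exact h

theorem E_inv {v w : W} (h : el w = (el v)⁻¹) : D.C.E w = (D.C.E v)⁻¹ := by
  rw [eq_inv_iff_mul_eq_one, ← Cfg.E_mulW, ← D.C.E_oneW]
  refine congrArg D.C.φ (Subtype.ext ?_)
  show el _ = el _
  rw [el_mulW, el_oneW, h, inv_mul_cancel]

theorem conj_inv (i : V3) {u : W} (h : el u * jel i * (el u)⁻¹ = (jel i)⁻¹) :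
    D.C.E u * D.C.j i * (D.C.E u)⁻¹ = (D.C.j i)⁻¹ := by
  obtain ⟨k, hk⟩ := jel_inv i
  rw [Cfg.j, D.E_rel (u := u) (v := (i, (0, 0))) (w := (k, (0, 0))) (by rw [el_base, el_base, h, hk]),
    D.E_inv (v := (i, (0, 0))) (by rw [el_base, el_base, hk])]

theorem conj_eq {i k : V3} {u : W} (h : el u * jel i * (el u)⁻¹ = jel k) :
    D.C.E u * D.C.j i * (D.C.E u)⁻¹ = D.C.j k :=
  D.E_rel (u := u) (v := (i, (0, 0))) (w := (k, (0, 0))) (by rw [el_base, el_base, h])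

theorem i_mem_K : D.C.E wi ∈ D.K := by
  refine D.mem_of_pow_four (D.E_mem_centralizer comm_facts.2.1) ?_
  rw [D.C.E_pow_eq_one_iff, pow_succ, pow_succ, pow_succ, pow_one, comm_facts.2.2.2.1, one_mul,
    comm_facts.2.2.2.1]

theorem j_mem_K {i : V3} (h : el wi * jel i * (el wi)⁻¹ = (jel i)⁻¹) : D.C.j i ∈ D.K := by
  obtain ⟨n, k, hk, he⟩ := D.decomp (x := D.C.j i) (by
    rw [Subgroup.mem_centralizer_singleton_iff]; exact D.C.j_comm _ _)
  have h1 := D.conj_inv i h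
  have hi := D.i_mem_K
  have e : D.C.E wi * (D.a ^ (n : ℕ) * k) * (D.C.E wi)⁻¹ =
      D.a ^ (n : ℕ) * (D.C.E wi * k * (D.C.E wi)⁻¹) := by
    calc D.C.E wi * (D.a ^ (n : ℕ) * k) * (D.C.E wi)⁻¹ =
        D.C.E wi * D.a ^ (n : ℕ) * k * (D.C.E wi)⁻¹ := by group
      _ = D.a ^ (n : ℕ) * D.C.E wi * k * (D.C.E wi)⁻¹ := by
          rw [((D.comm_a hi).pow_left _).eq]
      _ = _ := by group
  rw [he, e, mul_inv_rev] at h1
  have hmem : D.a ^ (n : ℕ) * D.a ^ (n : ℕ) ∈ D.K := by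
    have h2 : D.a ^ (n : ℕ) * D.a ^ (n : ℕ) = k⁻¹ * (D.C.E wi * k * (D.C.E wi)⁻¹)⁻¹ := by
      have hc := ((D.comm_a (mul_mem (mul_mem hi hk) (inv_mem hi))).pow_left (n : ℕ)).eq
      calc D.a ^ (n : ℕ) * D.a ^ (n : ℕ)
          = D.a ^ (n : ℕ) * (D.a ^ (n : ℕ) * (D.C.E wi * k * (D.C.E wi)⁻¹)) *
              (D.C.E wi * k * (D.C.E wi)⁻¹)⁻¹ := by group
        _ = D.a ^ (n : ℕ) * (k⁻¹ * (D.a ^ (n : ℕ))⁻¹) * (D.C.E wi * k * (D.C.E wi)⁻¹)⁻¹ := by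
            rw [h1]
        _ = k⁻¹ * (D.C.E wi * k * (D.C.E wi)⁻¹)⁻¹ := by
            rw [← mul_assoc (D.a ^ (n : ℕ)), ((D.comm_a (inv_mem hk)).pow_left (n : ℕ)).eq]
            group
    rw [h2]
    exact mul_mem (inv_mem hk) (inv_mem (mul_mem (mul_mem hi hk) (inv_mem hi)))
  have hn : n = 0 := by
    obtain rfl | rfl | rfl := (by decide : ∀ n : Fin 3, n = 0 ∨ n = 1 ∨ n = 2) n
    · rfl
    · exact absurd (D.pow_a_mem (i := 2) (by rw [show ((2 : Fin 3) : ℕ) = 1 + 1 from rfl, pow_add]; exact hmem)) (by decide)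
    · refine absurd (D.pow_a_mem (i := 1) ?_) (by decide)
      rw [← pow_add, show ((2 : Fin 3) : ℕ) + (2 : Fin 3) = 3 + 1 from rfl, pow_succ, D.a_pow,
        one_mul] at hmem
      simpa using hmem
  rw [he, hn, Fin.val_zero, pow_zero, one_mul]
  exact hk

/-- The embedding of the six-point group agrees with the model on the normaliser of its Sylow. -/
theorem exists_e : ∃ e : A6 →* G, Function.Injective e ∧ e.range = D.K ∧
    e b6 = D.C.j (0, 1, 0) ∧ e c6 = D.C.j (0, 0, 1) ∧ e i6 = D.C.E wi ∧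
    e q6 = D.C.E wq := by
  obtain ⟨κ⟩ := D.iso
  set e₀ : A6 →* G := D.K.subtype.comp κ.symm.toMonoidHom with he₀
  have h0i : Function.Injective e₀ := D.K.subtype_injective.comp κ.symm.injective
  have h0r : ∀ x ∈ D.K, ∃ y, e₀ y = x := fun x hx => ⟨κ ⟨x, hx⟩, by simp [he₀]⟩
  have h0m : ∀ y, e₀ y ∈ D.K := fun y => (κ.symm y).2
  have hb := D.j_mem_K (i := (0, 1, 0)) comm_facts.2.2.2.2.2.1
  have hc := D.j_mem_K (i := (0, 0, 1)) comm_facts.2.2.2.2.2.2.1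
  have hq := D.mem_of_pow_four (D.E_mem_centralizer comm_facts.1)
    ((D.C.E_pow_eq_one_iff _ _).mpr comm_facts.2.2.1)
  -- first match `b`
  have hex : ∀ (e : A6 →* G) (α : A6 ≃* A6), Function.Injective e →
      Function.Injective (e.comp α.toMonoidHom) ∧ (∀ y, (e.comp α.toMonoidHom) (α.symm y) = e y) :=
    fun e α he => ⟨he.comp α.injective, fun y => by simp⟩
  obtain ⟨B, hB⟩ := h0r _ hb
  have hB3 : B ^ 3 = 1 := h0i (by rw [map_pow, hB, map_one, D.C.J_pow _ (D.C.j_mem _)])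
  have hBne : B ≠ 1 := fun h => by
    rw [h, map_one, ← D.C.j_zero] at hB
    exact absurd (D.C.j_injective hB) (by decide)
  have h1 : ∃ α : A6 ≃* A6, α b6 = B := by
    obtain ⟨σ, hσ | hσ⟩ := class_three B hB3 hBne
    · exact ⟨MulAut.conjNormal σ, Subtype.ext (mul_inv_eq_iff_eq_mul.mpr hσ)⟩
    · obtain ⟨ε, hε⟩ := exists_exceptional
      refine ⟨ε.trans (MulAut.conjNormal σ), ?_⟩
      rw [MulEquiv.trans_apply, hε]
      exact Subtype.ext (mul_inv_eq_iff_eq_mul.mpr hσ)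
  obtain ⟨α, hα⟩ := h1
  set e₁ := e₀.comp α.toMonoidHom
  have h1i : Function.Injective e₁ := h0i.comp α.injective
  have h1b : e₁ b6 = D.C.j (0, 1, 0) := by rw [← hB, ← hα]; rfl
  have h1m : ∀ y, e₁ y ∈ D.K := fun y => h0m _
  have h1r : ∀ x ∈ D.K, ∃ y, e₁ y = x := fun x hx => by
    obtain ⟨y, hy⟩ := h0r x hx
    exact ⟨α.symm y, by simp [e₁, hy]⟩
  -- then `c`
  obtain ⟨X, hX⟩ := h1r _ hc
  have hXc : X * b6 = b6 * X := h1i (by rw [map_mul, map_mul, hX, h1b, D.C.j_comm])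
  have hjb : ∀ i : Fin 3, D.C.j (0, 1, 0) ^ (i : ℕ) = D.C.j (0, i, 0) := fun i =>
    D.C.j_pow ((by decide +kernel : ∀ i : Fin 3, jel (0, 1, 0) ^ (i : ℕ) = jel (0, i, 0)) i)
  have hXn : ∀ i : Fin 3, X ≠ b6 ^ (i : ℕ) := fun i h => by
    rw [h, map_pow, h1b, hjb] at hX
    exact absurd (Prod.ext_iff.mp (Prod.ext_iff.mp (D.C.j_injective hX)).2).2
      (by decide : (0 : Fin 3) ≠ 1)
  obtain ⟨Qe, hQe⟩ := h1r _ hq
  have hXg : ∃ g : A6, g * b6 = X * g ∨ g * b6⁻¹ = X * g := by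
    refine ⟨Qe, Or.inl (h1i ?_)⟩
    rw [map_mul, map_mul, hQe, h1b, hX, ← mul_inv_eq_iff_eq_mul]
    exact D.conj_eq comm_facts.2.2.2.2.2.2.2.1
  have h2 : ∃ e₂ : A6 →* G, Function.Injective e₂ ∧ (∀ x ∈ D.K, ∃ y, e₂ y = x) ∧
      (∀ y, e₂ y ∈ D.K) ∧ e₂ b6 = D.C.j (0, 1, 0) ∧ e₂ c6 = D.C.j (0, 0, 1) := by
    rcases second_gen X hXc hXn hXg with rfl | rfl
    · exact ⟨e₁, h1i, h1r, h1m, h1b, hX⟩
    · set β : A6 ≃* A6 := (MulAut.conjNormal (swap 4 5 : Perm (Fin 6))).symm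
      have hβb : β b6 = b6 := β.symm.injective (by
        rw [MulEquiv.symm_apply_apply]; exact Subtype.ext swap45.1.symm)
      have hβc : β c6 = c6⁻¹ := β.symm.injective (by
        rw [MulEquiv.symm_apply_apply]; exact Subtype.ext swap45.2.symm)
      refine ⟨e₁.comp β.toMonoidHom, h1i.comp β.injective, fun x hx => ?_, fun y => h1m _, ?_, ?_⟩
      · obtain ⟨y, hy⟩ := h1r x hx
        exact ⟨β.symm y, by simp [hy]⟩
      · show e₁ (β b6) = _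
        rw [hβb, h1b]
      · show e₁ (β c6) = _
        rw [hβc, hX]
  obtain ⟨e₂, h2i, h2r, h2m, h2b, h2c⟩ := h2
  -- the involution
  obtain ⟨I, hI⟩ := h2r _ D.i_mem_K
  have hIb : I * b6 * I⁻¹ = b6⁻¹ := h2i (by
    rw [map_mul, map_mul, map_inv, map_inv, hI, h2b]
    exact D.conj_inv _ comm_facts.2.2.2.2.2.1)
  have hIc : I * c6 * I⁻¹ = c6⁻¹ := h2i (by
    rw [map_mul, map_mul, map_inv, map_inv, hI, h2c]
    exact D.conj_inv _ comm_facts.2.2.2.2.2.2.1)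
  have hcb : (i6⁻¹ * I) * b6 = b6 * (i6⁻¹ * I) := by
    rw [mul_assoc, mul_inv_eq_iff_eq_mul.mp hIb, ← six_side.1]
    group
  have hcc : (i6⁻¹ * I) * c6 = c6 * (i6⁻¹ * I) := by
    rw [mul_assoc, mul_inv_eq_iff_eq_mul.mp hIc, ← six_side.2.1]
    group
  obtain ⟨x, y, hxy⟩ := cent_bc _ hcb hcc
  obtain ⟨s, t, hst⟩ := adjust_i x y
  set m := b6 ^ (s : ℕ) * c6 ^ (t : ℕ)
  set e₃ := e₂.comp (MulAut.conj m).toMonoidHom
  have hbc : b6 * c6 = c6 * b6 := by decide +kernel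
  have hmb : m * b6 * m⁻¹ = b6 := by
    have : Commute m b6 := ((Commute.refl b6).pow_left _).mul_left ((Commute.symm hbc).pow_left _)
    rw [this.eq, mul_inv_cancel_right]
  have hmc : m * c6 * m⁻¹ = c6 := by
    have : Commute m c6 := ((show Commute b6 c6 from hbc).pow_left _).mul_left
      ((Commute.refl c6).pow_left _)
    rw [this.eq, mul_inv_cancel_right]
  have h3i : Function.Injective e₃ := h2i.comp (MulAut.conj m).injective
  have h3r : ∀ x ∈ D.K, ∃ y, e₃ y = x := fun x hx => by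
    obtain ⟨y, hy⟩ := h2r x hx
    exact ⟨(MulAut.conj m).symm y, by simp [e₃, hy, mul_assoc]⟩
  have h3b : e₃ b6 = D.C.j (0, 1, 0) := by show e₂ (m * b6 * m⁻¹) = _; rw [hmb, h2b]
  have h3c : e₃ c6 = D.C.j (0, 0, 1) := by show e₂ (m * c6 * m⁻¹) = _; rw [hmc, h2c]
  have h3I : e₃ i6 = D.C.E wi := by
    show e₂ (m * i6 * m⁻¹) = _
    rw [hst, ← hxy, mul_inv_cancel_left, hI]
  -- the element of order four
  obtain ⟨Q, hQ⟩ := h3r _ hq
  have hQb : (q6⁻¹ * Q) * b6 = b6 * (q6⁻¹ * Q) := by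
    have : Q * b6 * Q⁻¹ = c6 := h3i (by
      rw [map_mul, map_mul, map_inv, hQ, h3b, h3c]; exact D.conj_eq comm_facts.2.2.2.2.2.2.2.1)
    rw [mul_assoc, mul_inv_eq_iff_eq_mul.mp this, ← gen_facts.2.2.2.2.1]
    group
  have hQc : (q6⁻¹ * Q) * c6 = c6 * (q6⁻¹ * Q) := by
    have : Q * c6 * Q⁻¹ = b6⁻¹ := h3i (by
      rw [map_mul, map_mul, map_inv, map_inv, hQ, h3b, h3c]
      obtain ⟨k, hk⟩ := jel_inv (0, 1, 0)
      rw [D.conj_eq (k := k) (by rw [comm_facts.2.2.2.2.2.2.2.2, hk])]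
      exact D.E_inv (v := ((0, 1, 0), (0, 0))) (by rw [el_base, el_base, hk]))
    rw [mul_assoc, mul_inv_eq_iff_eq_mul.mp this, ← six_side.2.2.1]
    group
  obtain ⟨x', y', hxy'⟩ := cent_bc _ hQb hQc
  have hQeq : Q = q6 * (b6 ^ (x' : ℕ) * c6 ^ (y' : ℕ)) := by rw [← hxy', mul_inv_cancel_left]
  have hQi : Q * i6 = i6 * Q := h3i (by
    rw [map_mul, map_mul, hQ, h3I, ← Cfg.E_mulW, ← Cfg.E_mulW]
    refine congrArg D.C.φ (Subtype.ext ?_)
    show el _ = el _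
    rw [el_mulW, el_mulW, ← comm_facts.2.2.2.2.1, mul_assoc])
  rw [hQeq] at hQi
  have hQq : Q = q6 := by rw [hQeq, adjust_q x' y' hQi, mul_one]
  refine ⟨e₃, h3i, le_antisymm ?_ fun x hx => ?_, h3b, h3c, h3I, hQq ▸ hQ⟩
  · rintro - ⟨y, rfl⟩; exact h2m _
  · obtain ⟨y, hy⟩ := h3r x hx; exact ⟨y, hy⟩

end Big

end Cfsg.Agent.Lib.A9Split79
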