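import Cfsg.Agent.Lib.A9Split79.NoSmall
import Cfsg.Agent.Lib.CosetEnum.A9x2240.Enum

/-!
# The centraliser of the four-group does not contain the involution with crossing support
-/

set_option autoImplicit false
set_option maxHeartbeats 800000
set_option maxRecDepth 20000

namespace Cfsg.Agent.Lib.A9Split79

open Equiv A9Norm79 A9Norm79.Model A9Norm79.ModelII
open Cfsg.Agent.Lib.CosetEnum

universe u

/-- The model elements of the letters inside the normaliser of the Sylow's abelian subgroup. -/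
def gw (g : ℕ) : W :=
  [((1, 0, 0), (0, 0)), ((2, 0, 0), (0, 0)), ((0, 1, 0), (0, 0)), ((0, 2, 0), (0, 0)),
    ir, powW ir 2, wt, wt, wsw, wsw].getD g oneW

/-- The triples of the letters inside the normaliser of the three-cycle. -/
def gt (g : ℕ) : Tri :=
  [(1, 1, false), (2, 1, false), (0, b6, false), (0, b6⁻¹, false), (0, 1, false), (0, 1, false),
    (0, 1, true), (0, 1, true), (0, xsw, true), (0, xsw, true), (0, y6, false),
    (0, y6, false)].getD g (0, 1, false)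

/-- The crossing relator. -/
def crossWord : List ℕ := [4, 4, 2, 10, 2, 10, 5, 5, 10, 4, 4, 11, 3, 11, 3, 5, 5, 11]

/-- The word of the forbidden element. -/
def nWord : List ℕ := [10, 2, 4, 10, 4, 10, 4, 3, 10, 3, 5, 10]

/-- The three trivially acting words. -/
def trivWords : List (List ℕ) :=
  [nWord ++ [0] ++ ExactCover.invWord nWord ++ [4, 3, 3, 5],
   nWord ++ [2] ++ ExactCover.invWord nWord ++ [1],
   nWord ++ [4, 2, 5] ++ ExactCover.invWord nWord ++ [3]]

theorem gw_facts : ∀ i : Fin 5, mulW (gw (2 * i)) (gw (2 * i + 1)) = oneW := by decide +kernel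

theorem gt_facts : ∀ i : Fin 6, tmul (gt (2 * i)) (gt (2 * i + 1)) = (0, 1, false) := by
  decide +kernel

theorem gt_gw : ∀ i : Fin 5, (i : ℕ) ≠ 2 → phi (gt (2 * i)) = el (gw (2 * i)) := by decide +kernel

theorem relWords_cases : ∀ l ∈ A9x2240.relWords, (∀ g ∈ l, g < 12) ∧
    (((∀ g ∈ l, g < 10) ∧ l.foldr (fun g w => mulW (gw g) w) oneW = oneW) ∨
    ((∀ g ∈ l, g ≠ 4 ∧ g ≠ 5) ∧ l.foldr (fun g p => tmul (gt g) p) (0, 1, false) = (0, 1, false)) ∨
    l = crossWord) := by decide +kernel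

theorem trivWords_lt : ∀ l ∈ trivWords, ∀ g ∈ l, g < 12 := by decide +kernel

theorem triv_ok : relsOK A9x2240.letters.K 2240 A9x2240.table trivWords = true := by decide +kernel

theorem conj_bad : ∀ j k : Fin 3, (j, k) ≠ (0, 0) → ∀ l : Fin 3 × Fin 3, ∀ l' : Fin 3 × Fin 3,
    ¬ ((y6 * (b6 ^ (j : ℕ) * c6 ^ (k : ℕ)) * y6) * b6 * (y6 * (b6 ^ (j : ℕ) * c6 ^ (k : ℕ)) * y6)⁻¹ =
        b6 ^ (l.1 : ℕ) * c6 ^ (l.2 : ℕ) ∧
      (y6 * (b6 ^ (j : ℕ) * c6 ^ (k : ℕ)) * y6) * c6 * (y6 * (b6 ^ (j : ℕ) * c6 ^ (k : ℕ)) * y6)⁻¹ =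
        b6 ^ (l'.1 : ℕ) * c6 ^ (l'.2 : ℕ)) := by decide +kernel

theorem no_shift : ∀ k : Fin 4 × Fin 6, ¬ (mel k * jel (1, 0, 0) * (mel k)⁻¹ = jel (0, 0, 2) ∧
    mel k * jel (0, 1, 0) * (mel k)⁻¹ = jel (1, 0, 0) ∧
    mel k * jel (0, 0, 1) * (mel k)⁻¹ = jel (0, 1, 0)) := by decide +kernel

namespace Big

variable {G : Type u} [Group G] [Finite G] (D : Big G)

/-- The images of the generators. -/
noncomputable def gen : Fin 6 → G :=
  ![D.a, D.b, D.C.r, D.C.E wt, D.C.E wsw, D.e y6]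

/-- The value of a letter. -/
noncomputable def lval (g : ℕ) : G :=
  if g % 2 = 0 then D.gen (Fin.ofNat 6 (g / 2)) else (D.gen (Fin.ofNat 6 (g / 2)))⁻¹

theorem lval_word (l : List ℕ) (hl : ∀ g ∈ l, g < 12) :
    FreeGroup.lift D.gen (ExactCover.word 6 l) = (l.map D.lval).prod := by
  refine ExactCover.map_lift_word (n := 6) D.gen (MonoidHom.id G) D.lval (fun g _ => ?_) l hl
  simp only [MonoidHom.id_apply, ExactCover.word, List.map_cons, List.map_nil, ExactCover.stdSym,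
    FreeGroup.lift_mk, List.prod_cons, List.prod_nil, mul_one, lval]
  rcases Nat.mod_two_eq_zero_or_one g with h | h <;> simp [h]

theorem lval_gw {g : ℕ} (hg : g < 10) : D.lval g = D.C.E (gw g) := by
  have he : ∀ i : Fin 5, D.lval (2 * i) = D.C.E (gw (2 * i)) := by
    intro i
    fin_cases i <;> rfl
  obtain ⟨i, rfl | rfl⟩ : ∃ i : Fin 5, g = 2 * (i : ℕ) ∨ g = 2 * (i : ℕ) + 1 :=
    ⟨⟨g / 2, by omega⟩, by simp only; omega⟩
  · exact he i
  · have h1 := gw_facts i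
    have h2 : D.C.E (gw (2 * i)) * D.C.E (gw (2 * i + 1)) = 1 := by
      rw [← Cfg.E_mulW, h1, Cfg.E_oneW]
    rw [eq_inv_of_mul_eq_one_right h2, ← he i]
    simp only [lval]
    rw [if_neg (by omega), if_pos (by omega), show (2 * (i : ℕ) + 1) / 2 = 2 * (i : ℕ) / 2 by omega]

theorem lval_gt {g : ℕ} (hg : g < 12) (h4 : g ≠ 4) (h5 : g ≠ 5) : D.lval g = D.psi (gt g) := by
  obtain ⟨i, hi⟩ : ∃ i : Fin 6, g = 2 * (i : ℕ) ∨ g = 2 * (i : ℕ) + 1 :=
    ⟨⟨g / 2, by omega⟩, by simp only; omega⟩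
  have hne : (i : ℕ) ≠ 2 := by omega
  have he : D.lval (2 * i) = D.psi (gt (2 * i)) := by
    by_cases h5' : (i : ℕ) < 5
    · have hp := gt_gw ⟨i, h5'⟩ hne
      rw [D.psi_agree hp, ← D.lval_gw (by omega)]
    · have : i = 5 := Fin.ext (show (i : ℕ) = 5 by omega)
      subst this
      exact (D.psi_false y6).symm
  rcases hi with rfl | rfl
  · exact he
  · have h2 : D.psi (gt (2 * i)) * D.psi (gt (2 * i + 1)) = 1 := by
      rw [psi_mul, gt_facts i, psi_one]
    rw [eq_inv_of_mul_eq_one_right h2, ← he]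
    simp only [lval]
    rw [if_neg (by omega), if_pos (by omega), show (2 * (i : ℕ) + 1) / 2 = 2 * (i : ℕ) / 2 by omega]

theorem prod_gw : ∀ l : List ℕ, (∀ g ∈ l, g < 10) →
    (l.map D.lval).prod = D.C.E (l.foldr (fun g w => mulW (gw g) w) oneW)
  | [], _ => (Cfg.E_oneW D.C).symm
  | g :: l, h => by
    rw [List.map_cons, List.prod_cons, List.foldr_cons, Cfg.E_mulW, D.lval_gw (h g List.mem_cons_self),
      prod_gw l fun x hx => h x (List.mem_cons_of_mem _ hx)]

theorem prod_gt : ∀ l : List ℕ, (∀ g ∈ l, g < 12 ∧ g ≠ 4 ∧ g ≠ 5) →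
    (l.map D.lval).prod = D.psi (l.foldr (fun g p => tmul (gt g) p) (0, 1, false))
  | [], _ => D.psi_one.symm
  | g :: l, h => by
    obtain ⟨h1, h2, h3⟩ := h g List.mem_cons_self
    rw [List.map_cons, List.prod_cons, List.foldr_cons, ← psi_mul, D.lval_gt h1 h2 h3,
      prod_gt l fun x hx => h x (List.mem_cons_of_mem _ hx)]

theorem rels_hold (hy : y6 ∈ D.L) : ∀ r ∈ A9x2240.pres, FreeGroup.lift D.gen r = 1 := by
  intro r hr
  obtain ⟨l, hl, rfl⟩ := List.mem_map.mp hr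
  show FreeGroup.lift D.gen (ExactCover.word 6 l) = 1
  obtain ⟨hlt, hcase⟩ := relWords_cases l hl
  rw [D.lval_word l hlt]
  rcases hcase with ⟨h, he⟩ | ⟨h, he⟩ | rfl
  · rw [D.prod_gw l h, he, Cfg.E_oneW]
  · rw [D.prod_gt l fun g hg => ⟨hlt g hg, h g hg⟩, he, psi_one]
  · set v := b6 * y6 * b6 * y6
    have hv : InV v := v_facts.2.2.2.2.2.2.2
    have hc : Commute (D.C.r * D.e y6 * D.C.r⁻¹) (D.e v) := D.mem_X.mp hy v hv
    have hr3 := D.C.r_pow
    have hc' : Commute (D.e y6) (D.C.r * D.C.r * D.e v * (D.C.r * D.C.r)⁻¹) := by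
      have := hc.map (MulAut.conj (D.C.r * D.C.r)).toMonoidHom
      simp only [MulEquiv.coe_toMonoidHom, MulAut.conj_apply] at this
      rwa [show D.C.r * D.C.r * (D.C.r * D.e y6 * D.C.r⁻¹) * (D.C.r * D.C.r)⁻¹ =
          D.C.r ^ 3 * D.e y6 * (D.C.r ^ 3)⁻¹ by simp only [pow_succ, pow_zero, one_mul]; group,
        hr3, one_mul, inv_one, mul_one] at this
    have hb : D.e b6 = D.b := D.e_b
    have hev : D.b * D.e y6 * D.b * D.e y6 = D.e v := by simp only [v, map_mul, hb]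
    calc (crossWord.map D.lval).prod
        = D.C.r * D.C.r * (D.b * D.e y6 * D.b * D.e y6) * (D.C.r * D.C.r)⁻¹ * D.e y6 *
            (D.C.r * D.C.r * (D.b * D.e y6 * D.b * D.e y6) * (D.C.r * D.C.r)⁻¹)⁻¹ *
              (D.e y6)⁻¹ := by
          simp only [crossWord, List.map_cons, List.map_nil, List.prod_cons, List.prod_nil]
          show D.C.r * (D.C.r * (D.b * (D.e y6 * (D.b * (D.e y6 * (D.C.r⁻¹ * (D.C.r⁻¹ * (D.e y6 *
            (D.C.r * (D.C.r * ((D.e y6)⁻¹ * (D.b⁻¹ * ((D.e y6)⁻¹ * (D.b⁻¹ * (D.C.r⁻¹ *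
              (D.C.r⁻¹ * ((D.e y6)⁻¹ * 1))))))))))))))))) = _
          simp only [mul_assoc, mul_inv_rev, mul_one, inv_inv]
      _ = 1 := by rw [hev, ← hc'.eq]; group

theorem e_mem_J {x : A6} (h : D.e x ∈ D.C.J) :
    ∃ l : Fin 3 × Fin 3, x = b6 ^ (l.1 : ℕ) * c6 ^ (l.2 : ℕ) := by
  obtain ⟨i, hi⟩ := D.C.exists_j h
  have hsplit : D.C.j i = D.a ^ (i.1 : ℕ) * D.e (b6 ^ (i.2.1 : ℕ) * c6 ^ (i.2.2 : ℕ)) := by
    rw [map_mul, map_pow, map_pow, D.e_b, D.e_c, D.a_pow_eq, D.C.j_pow (jel_axis _).1,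
      D.C.j_pow (jel_axis _).2]
    obtain ⟨i1, i2, i3⟩ := i
    rw [D.C.j_mul (l := (0, i2, i3)) (by rw [jel_add]; simp),
      D.C.j_mul (l := (i1, i2, i3)) (by rw [jel_add]; simp)]
  have h0 : i.1 = 0 := D.pow_a_mem (by
    have := mul_mem (D.e_mem x) (inv_mem (D.e_mem (b6 ^ (i.2.1 : ℕ) * c6 ^ (i.2.2 : ℕ))))
    rwa [← hi, hsplit, mul_inv_cancel_right] at this)
  rw [hsplit, h0, Fin.val_zero, pow_zero, one_mul] at hi
  exact ⟨i.2, (D.e_injective hi).symm⟩

/-- The involution with crossing support is not in the centraliser of the four-group. -/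
theorem y_not_mem_L : y6 ∉ D.L := by
  intro hy
  obtain ⟨hpos, -, ρ, hρ, hH, -⟩ := A9x2240.enum
  set f := PresentedGroup.toGroup (D.rels_hold hy)
  set S := ρ.ker.map f with hSdef
  have hmkf : ∀ l : List ℕ, (∀ g ∈ l, g < 12) →
      f (PresentedGroup.mk A9x2240.pres (A9x2240.letters.word l)) = (l.map D.lval).prod :=
    fun l hl => D.lval_word l hl
  have hSN : S ≤ Subgroup.normalizer (D.C.J : Set G) := by
    rintro _ ⟨x, hx, rfl⟩
    have h0 : x ∈ subOf A9x2240.letters A9x2240.pres A9x2240.subWords :=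
      (hH x).mpr (by rw [MonoidHom.mem_ker.mp hx]; rfl)
    have hle : subOf A9x2240.letters A9x2240.pres A9x2240.subWords ≤
        (Subgroup.normalizer (D.C.J : Set G)).comap f := by
      rw [subOf, Subgroup.closure_le]
      rintro _ ⟨l, hl, rfl⟩
      have hlt : ∀ g ∈ l, g < 10 :=
        (by decide +kernel : ∀ l ∈ A9x2240.subWords, ∀ g ∈ l, g < 10) l hl
      show f (l.map (A9x2240.letters.phi A9x2240.pres)).prod ∈ Subgroup.normalizer (D.C.J : Set G)
      rw [Letters.prod_phi l (fun g hg => by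
        show g < 2 * 6; exact (hlt g hg).trans (by norm_num)),
        hmkf l (fun g hg => (hlt g hg).trans (by norm_num)), D.prod_gw l hlt]
      exact D.C.E_mem _
    exact hle h0
  have hfix : ∀ (i : Fin 6), ∀ s ∈ S, D.gen i * s * (D.gen i)⁻¹ ∈ S := by
    rintro i _ ⟨x, hx, rfl⟩
    refine ⟨PresentedGroup.of i * x * (PresentedGroup.of i)⁻¹,
      Subgroup.Normal.conj_mem inferInstance x hx _, ?_⟩
    rw [map_mul, map_mul, map_inv, PresentedGroup.toGroup.of]
  -- it meets `J` trivially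
  have hSJ : ∀ s ∈ S, s ∈ D.C.J → s = 1 := by
    intro s hs hsJ
    obtain ⟨⟨i1, i2, i3⟩, rfl⟩ := D.C.exists_j hsJ
    have key : ∀ j1 j2 j3 : Fin 3, D.C.j (j1, j2, j3) ∈ S → j2 = 0 ∧ j3 = 0 := by
      intro j1 j2 j3 hj
      by_contra hne
      set z := b6 ^ (j2 : ℕ) * c6 ^ (j3 : ℕ) with hz
      have hjz : D.C.j (j1, j2, j3) = D.a ^ (j1 : ℕ) * D.e z := by
        rw [hz, map_mul, map_pow, map_pow, D.e_b, D.e_c, D.a_pow_eq, D.C.j_pow (jel_axis _).1,
          D.C.j_pow (jel_axis _).2, D.C.j_mul (l := (0, j2, j3)) (by rw [jel_add]; simp),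
          D.C.j_mul (l := (j1, j2, j3)) (by rw [jel_add]; simp)]
      have hy2 : (D.e y6)⁻¹ = D.e y6 := by
        rw [← map_inv, inv_eq_of_mul_eq_one_right y6_facts.1]
      have hN := hSN (hfix 5 _ hj)
      rw [show D.gen 5 = D.e y6 from rfl, hjz, hy2,
        show D.e y6 * (D.a ^ (j1 : ℕ) * D.e z) * D.e y6 =
          (D.e y6 * D.a ^ (j1 : ℕ)) * D.e z * D.e y6 by group,
        ← ((D.e_comm_a y6).pow_left _).eq,
        show D.a ^ (j1 : ℕ) * D.e y6 * D.e z * D.e y6 =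
          D.a ^ (j1 : ℕ) * (D.e y6 * D.e z * D.e y6) by group, ← map_mul, ← map_mul] at hN
      have hN' : D.e (y6 * z * y6) ∈ Subgroup.normalizer (D.C.J : Set G) := by
        have := mul_mem (inv_mem (Subgroup.le_normalizer
          (pow_mem (D.C.j_mem (1, 0, 0)) (j1 : ℕ)))) hN
        rwa [show (D.C.j (1, 0, 0)) = D.a from rfl, inv_mul_cancel_left] at this
      have hb := (Subgroup.mem_normalizer_iff.mp hN' _).mp (D.C.j_mem (0, 1, 0))
      have hc := (Subgroup.mem_normalizer_iff.mp hN' _).mp (D.C.j_mem (0, 0, 1))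
      rw [← D.e_b, ← map_inv, ← map_mul, ← map_mul] at hb
      rw [← D.e_c, ← map_inv, ← map_mul, ← map_mul] at hc
      obtain ⟨l, hl⟩ := D.e_mem_J hb
      obtain ⟨l', hl'⟩ := D.e_mem_J hc
      exact conj_bad j2 j3 (fun h => hne (Prod.mk.injEq .. ▸ h)) l l' ⟨hl, hl'⟩
    obtain ⟨rfl, rfl⟩ := key _ _ _ hs
    have h2 := hfix 2 _ hs
    rw [show D.gen 2 = D.C.E ir from rfl, D.conj_eq (u := ir) (k := (0, i1, 0)) ((by decide +kernel :
      ∀ i : Fin 3, el ir * jel (i, 0, 0) * (el ir)⁻¹ = jel (0, i, 0)) i1)] at h2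
    rw [(key _ _ _ h2).1]
    exact D.C.j_zero
  have hS1 : ∀ s ∈ S, s = 1 := by
    intro s hs
    refine hSJ s hs ?_
    have hg : ∀ i : Fin 3, Commute (D.C.j (![(1, 0, 0), (0, 1, 0), (0, 0, 1)] i)) s := by
      intro i
      set q : G := D.C.j (![(1, 0, 0), (0, 1, 0), (0, 0, 1)] i)
      have hqS : q * s * q⁻¹ ∈ S := by
        fin_cases i
        · exact hfix 0 s hs
        · exact hfix 1 s hs
        · have hc : q = D.gen 2 * D.gen 1 * (D.gen 2)⁻¹ := (D.conj_eq shift_facts.2.2.1).symm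
          rw [hc, show D.gen 2 * D.gen 1 * (D.gen 2)⁻¹ * s * (D.gen 2 * D.gen 1 * (D.gen 2)⁻¹)⁻¹ =
            D.gen 2 * (D.gen 1 * ((D.gen 2)⁻¹ * s * D.gen 2) * (D.gen 1)⁻¹) * (D.gen 2)⁻¹ by group]
          refine hfix 2 _ (hfix 1 _ ?_)
          have : (D.gen 2)⁻¹ = D.gen 2 * D.gen 2 := by
            rw [eq_comm, eq_inv_iff_mul_eq_one, show D.gen 2 = D.C.r from rfl, mul_assoc,
              ← D.C.r_pow]
            simp only [pow_succ, pow_zero, one_mul, mul_assoc]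
          rw [this, show D.gen 2 * D.gen 2 * s * D.gen 2 =
            D.gen 2 * (D.gen 2 * s * (D.gen 2)⁻¹) * (D.gen 2)⁻¹ * (D.gen 2 * D.gen 2 * D.gen 2) by
              group, show D.gen 2 * D.gen 2 * D.gen 2 = 1 by
                rw [show D.gen 2 = D.C.r from rfl, ← D.C.r_pow]
                simp only [pow_succ, pow_zero, one_mul], mul_one]
          exact hfix 2 _ (hfix 2 _ hs)
      have h1 : q * s * q⁻¹ * s⁻¹ = 1 := by
        refine hSJ _ (mul_mem hqS (inv_mem hs)) ?_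
        rw [show q * s * q⁻¹ * s⁻¹ = q * (s * q⁻¹ * s⁻¹) by group]
        exact mul_mem (D.C.j_mem _)
          ((Subgroup.mem_normalizer_iff.mp (hSN hs) _).mp (inv_mem (D.C.j_mem _)))
      exact mul_inv_eq_iff_eq_mul.mp (mul_inv_eq_one.mp h1)
    rw [← D.C.centralizer_J, Subgroup.mem_centralizer_iff]
    intro q hq
    obtain ⟨⟨i1, i2, i3⟩, rfl⟩ := D.C.exists_j hq
    have e : D.C.j (i1, i2, i3) = D.C.j (1, 0, 0) ^ (i1 : ℕ) * D.C.j (0, 1, 0) ^ (i2 : ℕ) *
        D.C.j (0, 0, 1) ^ (i3 : ℕ) := by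
      rw [D.C.j_pow (jel_pow_fst i1), D.C.j_pow (jel_axis _).1, D.C.j_pow (jel_axis _).2,
        D.C.j_mul (l := (i1, i2, 0)) (by rw [jel_add]; simp),
        D.C.j_mul (l := (i1, i2, i3)) (by rw [jel_add]; simp)]
    rw [e]
    exact ((((hg 0).pow_left _).mul_left ((hg 1).pow_left _)).mul_left ((hg 2).pow_left _)).eq
  -- the forbidden element
  have hscan : ∀ (l : List ℕ), (∀ g ∈ l, g < A9x2240.letters.K) → ∀ i : Fin 2240,
      ((ρ (l.map (A9x2240.letters.phi A9x2240.pres)).prod)⁻¹ i).1 =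
        scan A9x2240.letters.K A9x2240.table l i.1 := by
    intro l
    induction l with
    | nil => intro _ i; simp [scan]
    | cons g l ih =>
      intro hl i
      rw [List.map_cons, List.prod_cons, map_mul, mul_inv_rev, Equiv.Perm.mul_apply,
        ih (fun x hx => hl x (List.mem_cons_of_mem _ hx)), hρ g (hl g List.mem_cons_self)]
      change scan A9x2240.letters.K A9x2240.table l
          (get32 A9x2240.table (i.1 * A9x2240.letters.K + g)) =
        force (get32 A9x2240.table (Nat.add (Nat.mul i.1 A9x2240.letters.K) g))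
          (scan A9x2240.letters.K A9x2240.table l)
      rw [force_eq]; rfl
  have htriv : ∀ l ∈ trivWords, (l.map D.lval).prod = 1 := by
    intro l hl
    have hlt := trivWords_lt l hl
    rw [← hmkf l hlt]
    refine hS1 _ ⟨_, ?_, rfl⟩
    rw [← Letters.prod_phi l (fun g hg => by show g < 2 * 6; exact hlt g hg), SetLike.mem_coe,
      MonoidHom.mem_ker, ← inv_eq_one]
    refine Equiv.ext fun i => Fin.ext ?_
    rw [hscan l (fun g hg => by show g < 2 * 6; exact hlt g hg) i]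
    exact relsOK_rel triv_ok i.2 hl
  set n := (nWord.map D.lval).prod
  have hninv : ((ExactCover.invWord nWord).map D.lval).prod = n⁻¹ := by
    rw [← D.lval_word _ (by decide +kernel), ExactCover.word_invWord, map_inv,
      D.lval_word _ (by decide +kernel)]
  have hval : ∀ x y : List ℕ, nWord ++ x ++ ExactCover.invWord nWord ++ y ∈ trivWords →
      n * (x.map D.lval).prod * n⁻¹ = ((y.map D.lval).prod)⁻¹ := by
    intro x y h
    have := htriv _ h
    rw [List.map_append, List.map_append, List.map_append, List.prod_append, List.prod_append,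
      List.prod_append, hninv] at this
    exact eq_inv_of_mul_eq_one_left this
  have ea := hval [0] [4, 3, 3, 5] (by simp [trivWords])
  have eb := hval [2] [1] (by simp [trivWords])
  have ec := hval [4, 2, 5] [3] (by simp [trivWords])
  rw [D.prod_gw _ (by decide +kernel), D.prod_gw _ (by decide +kernel),
    show [0].foldr (fun g w => mulW (gw g) w) oneW = (((1, 0, 0), (0, 0)) : W) by decide +kernel,
    show [4, 3, 3, 5].foldr (fun g w => mulW (gw g) w) oneW = (((0, 0, 1), (0, 0)) : W) by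
      decide +kernel] at ea
  rw [D.prod_gw _ (by decide +kernel), D.prod_gw _ (by decide +kernel),
    show [2].foldr (fun g w => mulW (gw g) w) oneW = (((0, 1, 0), (0, 0)) : W) by decide +kernel,
    show [1].foldr (fun g w => mulW (gw g) w) oneW = (((2, 0, 0), (0, 0)) : W) by decide +kernel] at eb
  rw [D.prod_gw _ (by decide +kernel), D.prod_gw _ (by decide +kernel),
    show [4, 2, 5].foldr (fun g w => mulW (gw g) w) oneW = (((0, 0, 1), (0, 0)) : W) by decide +kernel,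
    show [3].foldr (fun g w => mulW (gw g) w) oneW = (((0, 2, 0), (0, 0)) : W) by decide +kernel] at ec
  have hinv : ∀ i k : V3, jel i * jel k = 1 → (D.C.j i)⁻¹ = D.C.j k := fun i k h =>
    inv_eq_of_mul_eq_one_right (by
      rw [D.C.j_mul (l := (0, 0, 0)) (h.trans jel_gen.2.2.2.symm)]; exact D.C.j_zero)
  change n * D.C.j (1, 0, 0) * n⁻¹ = (D.C.j (0, 0, 1))⁻¹ at ea
  change n * D.C.j (0, 1, 0) * n⁻¹ = (D.C.j (2, 0, 0))⁻¹ at eb
  change n * D.C.j (0, 0, 1) * n⁻¹ = (D.C.j (0, 2, 0))⁻¹ at ec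
  rw [hinv _ (0, 0, 2) (by decide +kernel)] at ea
  rw [hinv _ (1, 0, 0) (by decide +kernel)] at eb
  rw [hinv _ (0, 1, 0) (by decide +kernel)] at ec
  have hnN : n ∈ Subgroup.normalizer (D.C.J : Set G) := by
    refine Subgroup.mem_normalizer_fintype fun q hq => ?_
    obtain ⟨⟨i1, i2, i3⟩, rfl⟩ := D.C.exists_j hq
    have e : D.C.j (i1, i2, i3) = D.C.j (1, 0, 0) ^ (i1 : ℕ) * D.C.j (0, 1, 0) ^ (i2 : ℕ) *
        D.C.j (0, 0, 1) ^ (i3 : ℕ) := by
      rw [D.C.j_pow (jel_pow_fst i1), D.C.j_pow (jel_axis _).1, D.C.j_pow (jel_axis _).2,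
        D.C.j_mul (l := (i1, i2, 0)) (by rw [jel_add]; simp),
        D.C.j_mul (l := (i1, i2, i3)) (by rw [jel_add]; simp)]
    show n * D.C.j (i1, i2, i3) * n⁻¹ ∈ D.C.J
    rw [e, ← MulAut.conj_apply, map_mul, map_mul, map_pow, map_pow, map_pow, MulAut.conj_apply,
      MulAut.conj_apply, MulAut.conj_apply, ea, eb, ec]
    exact mul_mem (mul_mem (pow_mem (D.C.j_mem _) _) (pow_mem (D.C.j_mem _) _))
      (pow_mem (D.C.j_mem _) _)
  obtain ⟨⟨v, k⟩, hw⟩ := D.C.exists_E hnN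
  have hrel : ∀ i l : V3, n * D.C.j i * n⁻¹ = D.C.j l → mel k * jel i * (mel k)⁻¹ = jel l := by
    intro i l h
    rw [← hw, Cfg.j, Cfg.j, mul_inv_eq_iff_eq_mul, ← Cfg.E_mulW, ← Cfg.E_mulW] at h
    have h1 := congrArg el (D.C.E_injective h)
    rw [el_mulW, el_mulW, el_base, el_base, el] at h1
    rw [mul_inv_eq_iff_eq_mul]
    have h2 : jel v * jel l = jel l * jel v := by rw [jel_add, jel_add, add_comm]
    rw [← mul_assoc (jel l), ← h2, mul_assoc, mul_assoc] at h1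
    exact mul_left_cancel h1
  exact no_shift k ⟨hrel _ _ ea, hrel _ _ eb, hrel _ _ ec⟩

end Big

end Cfsg.Agent.Lib.A9Split79
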