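import Cfsg.Agent.Lib.A9Split79.Four
import Cfsg.Agent.Lib.Coprime.Generation
import Cfsg.Agent.Lib.Spectrum.SelfThree.Main
import Cfsg.Agent.Lib.Cores.Basic

/-!
# The centraliser of the four-group when its part in the shifted group is small
-/

set_option autoImplicit false
set_option maxHeartbeats 800000

namespace Cfsg.Agent.Lib.A9Split79

open Equiv A9Norm79 A9Norm79.Model A9Norm79.ModelII
open Cfsg.Agent.Lib.Spectrum.SelfThree
open scoped Pointwise

universe u

theorem two_typ : ∀ t : Fin 3, t ≠ 0 → typ ((t, 1, 0) : V3) = 2 := by decide +kernel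

theorem cent_ab : ∀ k : Fin 4 × Fin 6, mel k * jel (1, 0, 0) = jel (1, 0, 0) * mel k →
    mel k * jel (0, 1, 0) = jel (0, 1, 0) * mel k → k = (0, 0) := by decide +kernel

theorem seven_sylow : ∀ n : Fin 97, (n : ℕ) ∣ 96 → (n : ℕ) % 7 = 1 → (n : ℕ) % 3 ≠ 0 := by
  decide +kernel

namespace Big

variable {G : Type u} [Group G] [Finite G] (D : Big G)

theorem mem_K_of_coprime {x : G} (hx : x ∈ Subgroup.centralizer ({D.a} : Set G)) {n : ℕ}
    (hn : ¬ 3 ∣ n) (h : x ^ n = 1) : x ∈ D.K := by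
  obtain ⟨i, k, hk, rfl⟩ := D.decomp hx
  rw [((D.comm_a hk).pow_left _).mul_pow] at h
  have h1 : (D.a ^ (i : ℕ)) ^ n ∈ D.K := by
    rw [eq_inv_of_mul_eq_one_left h]; exact inv_mem (pow_mem hk n)
  have h3 : (D.a ^ (i : ℕ)) ^ 3 = 1 := by rw [← pow_mul, pow_mul', D.a_pow, one_pow]
  obtain ⟨m, hm⟩ := exists_pow_eq_self_of_coprime (n := n) (x := D.a ^ (i : ℕ))
    ((((Nat.prime_three.coprime_iff_not_dvd).2 hn).symm).coprime_dvd_right
      (orderOf_dvd_of_pow_eq_one h3))
  have : i = 0 := D.pow_a_mem (hm ▸ pow_mem h1 m)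
  rw [this, Fin.val_zero, pow_zero, one_mul]
  exact hk

theorem b_mem_normalizer_V : D.b ∈ Subgroup.normalizer (D.V : Set G) := by
  refine Subgroup.mem_normalizer_iff.mpr fun g => ⟨?_, ?_⟩
  · rintro ⟨v, hv, rfl⟩
    exact ⟨_, (v_facts.2.2.2.2.2.1 v hv).1, by rw [map_mul, map_mul, map_inv, D.e_b]; rfl⟩
  · rintro ⟨v, hv, he⟩
    refine ⟨_, (v_facts.2.2.2.2.2.1 v hv).2, ?_⟩
    rw [map_mul, map_mul, map_inv, D.e_b, he]
    show D.b⁻¹ * (D.b * g * D.b⁻¹) * D.b = g
    group

theorem normalizer_V_le : Subgroup.normalizer (D.V : Set G) ≤ Subgroup.normalizer (D.X : Set G) := by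
  intro h hh
  refine Subgroup.mem_normalizer_iff.mpr fun g => ?_
  simp only [X, Subgroup.mem_centralizer_iff]
  constructor
  · intro hg v hv
    have h1 : h⁻¹ * v * h ∈ D.V := by
      have := (Subgroup.mem_normalizer_iff.mp (inv_mem hh) v).mp hv
      rwa [inv_inv] at this
    calc v * (h * g * h⁻¹) = h * ((h⁻¹ * v * h) * g) * h⁻¹ := by group
      _ = h * (g * (h⁻¹ * v * h)) * h⁻¹ := by rw [hg _ h1]
      _ = _ := by group
  · intro hg v hv
    have h1 : h * v * h⁻¹ ∈ D.V := (Subgroup.mem_normalizer_iff.mp hh v).mp hv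
    calc v * g = h⁻¹ * ((h * v * h⁻¹) * (h * g * h⁻¹)) * h := by group
      _ = h⁻¹ * ((h * g * h⁻¹) * (h * v * h⁻¹)) * h := by rw [hg _ h1]
      _ = _ := by group

theorem card_V : Nat.card D.V = 4 := by
  have h : Nat.card {v : A6 // InV v} = 4 := by rw [Nat.card_eq_fintype_card]; decide +kernel
  rw [← h]
  refine (Nat.card_congr (Equiv.ofBijective
    (fun v : {v : A6 // InV v} => (⟨D.e v.1, D.e_mem_V v.2⟩ : D.V)) ⟨?_, ?_⟩)).symm
  · intro v w e
    exact Subtype.ext (D.e_injective (congrArg Subtype.val e))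
  · rintro ⟨g, v, hv, rfl⟩
    exact ⟨⟨v, hv⟩, rfl⟩

theorem e_sq_of_inV {v : A6} (hv : InV v) : D.e v * D.e v = 1 := by
  rw [← map_mul, (by decide +kernel : ∀ v : A6, InV v → v * v = 1) v hv, map_one]

variable (hS : ∀ y ∈ D.L, InS y)
include hS

omit hS in
theorem mem_V_of_cent_a {g : G} (hg : g ∈ D.X) (h : Commute g D.a) {n : ℕ} (hn : ¬ 3 ∣ n)
    (hgn : g ^ n = 1) : g ∈ D.V := by
  obtain ⟨i, v, hv, he⟩ := D.mem_of_comm_a hg h
  have hK : g ∈ D.K := D.mem_K_of_coprime (Subgroup.mem_centralizer_singleton_iff.mpr h.eq) hn hgn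
  have : i = 0 := D.pow_a_mem (by
    have := mul_mem hK (inv_mem (D.e_mem v))
    rwa [he, mul_inv_cancel_right] at this)
  rw [he, this, Fin.val_zero, pow_zero, one_mul]
  exact D.e_mem_V hv

/-- Every subgroup of `X` of order prime to three normalised by `a` and `b` lies in `V`. -/
theorem le_V {M : Subgroup G} (hM : M ≤ D.X) (h3 : ¬ 3 ∣ Nat.card M)
    (ha : D.a ∈ Subgroup.normalizer (M : Set G)) (hb : D.b ∈ Subgroup.normalizer (M : Set G)) :
    M ≤ D.V := by
  haveI : Fact (Nat.Prime 3) := ⟨Nat.prime_three⟩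
  have hq : Nat.Coprime 3 (Nat.card M) := (Nat.prime_three.coprime_iff_not_dvd).2 h3
  have hJ : Subgroup.closure ({D.b, D.a} : Set G) ≤ D.C.J := by
    rw [Subgroup.closure_le]
    rintro x (rfl | rfl) <;> exact D.C.j_mem _
  have hcop : (Nat.card (Subgroup.closure ({D.b, D.a} : Set G))).Coprime (Nat.card M) :=
    Nat.Coprime.coprime_dvd_left (Subgroup.card_dvd_of_le hJ) (by
      rw [D.C.card_J, show 27 = 3 ^ 3 by norm_num]; exact hq.pow_left 3)
  have hpow : ∀ {x : G}, x ∈ M → x ^ Nat.card M = 1 := fun hx =>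
    congrArg Subtype.val (pow_card_eq_one' (x := (⟨_, hx⟩ : M)))
  have hMJ : ∀ {x : G}, x ∈ M → x ∈ D.C.J → x = 1 := by
    intro x hx hxJ
    have h1 : orderOf x ∣ Nat.card M := M.orderOf_dvd_natCard hx
    have h2 : orderOf x ∣ 3 := orderOf_dvd_of_pow_eq_one (D.C.J_pow x hxJ)
    exact orderOf_eq_one_iff.mp (Nat.eq_one_of_dvd_coprimes hq h2 h1)
  refine (Coprime.le_lineCentralizers (q := 3) D.a_comm_b.symm hb ha
    (by rw [show D.b ^ 3 = 1 from D.C.J_pow _ (D.C.j_mem _)]; exact one_mem _)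
    (by rw [D.a_pow]; exact one_mem _) hcop hq).trans ?_
  refine sup_le ?_ (iSup_le fun t => ?_)
  · rintro g ⟨hgM, hga⟩
    exact D.mem_V_of_cent_a (hM hgM) (Subgroup.mem_centralizer_singleton_iff.mp hga) h3 (hpow hgM)
  rintro g ⟨hgM, hgb⟩
  have hgb' := Subgroup.mem_centralizer_singleton_iff.mp hgb
  refine D.mem_V_of_cent_a (hM hgM) ?_ h3 (hpow hgM)
  have hconj : D.a * g * D.a⁻¹ * g⁻¹ ∈ M :=
    mul_mem ((Subgroup.mem_normalizer_iff.mp ha g).mp hgM) (inv_mem hgM)
  suffices D.a * g * D.a⁻¹ * g⁻¹ = 1 by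
    exact ((mul_inv_eq_iff_eq_mul.mp (mul_inv_eq_one.mp this))).symm
  refine hMJ hconj ?_
  by_cases ht : t = 0
  · subst ht
    simp only [ZMod.val_zero, pow_zero, mul_one] at hgb'
    let R := D.C.r
    have hga : R⁻¹ * g * R ∈ Subgroup.centralizer ({D.a} : Set G) := by
      rw [Subgroup.mem_centralizer_singleton_iff]
      calc R⁻¹ * g * R * D.a = R⁻¹ * (g * (R * D.a * R⁻¹)) * R := by group
        _ = R⁻¹ * ((R * D.a * R⁻¹) * g) * R := by rw [D.conj_r_a, hgb']
        _ = _ := by group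
    have hgK := D.mem_K_of_coprime hga h3 (by
      have := conj_pow (a := R⁻¹) (b := g) (i := Nat.card M)
      rw [inv_inv, hpow hgM, mul_one, inv_mul_cancel] at this
      exact this)
    obtain ⟨y, hy⟩ := D.exists_e_eq hgK
    have hgy : g = D.e' y := by rw [e'_apply, hy]; show g = D.C.r * (D.C.r⁻¹ * g * D.C.r) * D.C.r⁻¹; group
    obtain ⟨i, hi⟩ := S_facts y (hS y (by rw [mem_L, ← hgy]; exact hM hgM))
    have : g * D.a * g⁻¹ * D.a⁻¹ = D.a ^ (i : ℕ) := by
      rw [hgy, ← D.e'_c, ← map_inv, ← map_inv, ← map_mul, ← map_mul, ← map_mul, hi, map_pow]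
    have h2 : D.a * g * D.a⁻¹ * g⁻¹ = (g * D.a * g⁻¹ * D.a⁻¹)⁻¹ := by group
    rw [h2, this]
    exact inv_mem (pow_mem (D.C.j_mem _) _)
  · set t3 : Fin 3 := ⟨t.val, t.val_lt⟩
    have ht3 : t3 ≠ 0 := fun h => ht ((ZMod.val_eq_zero t).mp (congrArg Fin.val h))
    have hel : D.b * D.a ^ t.val = D.C.j (t3, 1, 0) := by
      rw [show t.val = (t3 : ℕ) from rfl, D.a_pow_eq]
      exact D.C.j_mul ((by decide +kernel : ∀ s : Fin 3,
        jel (0, 1, 0) * jel (s, 0, 0) = jel (s, 1, 0)) t3)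
    have hgN : g ∈ Subgroup.normalizer (D.C.J : Set G) := by
      refine D.C.centralizer_typ_two_le (two_typ t3 ht3) ?_
      rw [← hel]; exact hgb
    rw [show D.a * g * D.a⁻¹ * g⁻¹ = D.a * (g * D.a⁻¹ * g⁻¹) by group]
    exact mul_mem (D.C.j_mem _)
      ((Subgroup.mem_normalizer_iff.mp hgN _).mp (inv_mem (D.C.j_mem _)))

/-- The centraliser of the four-group is the product. -/
theorem X_eq {x : G} (hx : x ∈ D.X) : ∃ v s, InV v ∧ InS s ∧ x = D.e v * D.e' s := by
  classical
  haveI : Fact (Nat.Prime 3) := ⟨Nat.prime_three⟩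
  haveI : Fact (Nat.Prime 2) := ⟨Nat.prime_two⟩
  haveI : Fact (Nat.Prime 7) := ⟨by norm_num⟩
  set E1 := D.V.subgroupOf D.X with hE1
  have hcentral : ∀ v ∈ E1, ∀ g : D.X, g * v = v * g := fun v hv g =>
    Subtype.ext (Subgroup.mem_centralizer_iff.mp g.2 _ hv).symm
  haveI hE1n : E1.Normal := ⟨fun n hn g => by rw [hcentral n hn g, mul_inv_cancel_right]; exact hn⟩
  have hE1c : Nat.card E1 = 4 := by
    rw [Nat.card_congr (Subgroup.subgroupOfEquivOfLe D.V_le_X).toEquiv, D.card_V]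
  set za : D.X := ⟨D.a, D.a_mem_X⟩
  have hSC : SC (za : D.X ⧸ E1) := by
    refine ⟨orderOf_eq_prime ?_ ?_, ?_⟩
    · rw [← QuotientGroup.mk_pow, show za ^ 3 = 1 from Subtype.ext D.a_pow, QuotientGroup.mk_one]
    · intro h
      obtain ⟨v, hv, he⟩ := (QuotientGroup.eq_one_iff za).mp h
      have h1 : D.a = 1 := by
        have h2 : D.a * D.a = 1 := by rw [show D.a = D.e v from he.symm]; exact D.e_sq_of_inV hv
        have h3 := D.a_pow
        rw [pow_succ, pow_two, h2, one_mul] at h3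
        exact h3
      rw [a, ← D.C.j_zero] at h1
      exact absurd (D.C.j_injective h1) (by decide)
    · intro y hy
      obtain ⟨g, rfl⟩ := QuotientGroup.mk_surjective y
      have hm : g * za * g⁻¹ * za⁻¹ ∈ E1 := by
        rw [← QuotientGroup.eq_one_iff]
        simp only [QuotientGroup.mk_mul, QuotientGroup.mk_inv]
        rw [hy]; group
      obtain ⟨v, hv, he⟩ := hm
      have hga : (g : G) * D.a * (g : G)⁻¹ = D.e v * D.a := by
        rw [show D.e v = (g : G) * D.a * (g : G)⁻¹ * D.a⁻¹ from he]; group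
      have hv1 : D.e v = 1 := by
        have h3 : (D.e v * D.a) ^ 3 = 1 := by rw [← hga, conj_pow, D.a_pow, mul_one, mul_inv_cancel]
        rw [((D.e_comm_a v).symm).mul_pow, D.a_pow, mul_one, pow_succ, pow_two, D.e_sq_of_inV hv,
          one_mul] at h3
        exact h3
      rw [hv1, one_mul] at hga
      obtain ⟨i, w, hw, hg⟩ := D.mem_of_comm_a g.2 (mul_inv_eq_iff_eq_mul.mp hga)
      refine Subgroup.mem_zpowers_iff.mpr ⟨((i : ℕ) : ℤ), ?_⟩
      rw [zpow_natCast, ← QuotientGroup.mk_pow, QuotientGroup.eq]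
      refine ⟨w, hw, ?_⟩
      show D.e w = ((za ^ (i : ℕ))⁻¹ * g : D.X)
      simp only [Subgroup.coe_mul, Subgroup.coe_inv, Subgroup.coe_pow]
      rw [hg]; show _ = (D.a ^ (i : ℕ))⁻¹ * _; group
  have hbot : ∀ N : Subgroup (D.X ⧸ E1), N.Normal → ¬ 3 ∣ Nat.card N → N = ⊥ := by
    intro N hN hN3
    haveI := hN
    have hcard : Nat.card (N.comap (QuotientGroup.mk' E1)) = 4 * Nat.card N := by
      rw [← hE1c]
      exact Nat.card_congr (QuotientGroup.preimageMkEquivSubgroupProdSet E1 (N : Set _)) |>.trans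
        (Nat.card_prod _ _)
    have hle := Cores.le_pPrimeCore (p := 3) (N := N.comap (QuotientGroup.mk' E1)) (by
      rw [hcard]
      exact Nat.Coprime.mul_left (by norm_num) ((Nat.prime_three.coprime_iff_not_dvd).2 hN3).symm)
    set M := (Cfsg.pPrimeCore 3 D.X).map D.X.subtype with hMdef
    have hMle : M ≤ D.X := Subgroup.map_subtype_le _
    have hM3 : ¬ 3 ∣ Nat.card M := by
      rw [Subgroup.card_map_of_injective D.X.subtype_injective]
      exact Cores.not_dvd_card_pPrimeCore 3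
    have hnorm : ∀ h ∈ Subgroup.normalizer (D.X : Set G), h ∈ Subgroup.normalizer (M : Set G) := by
      intro h hh
      have hfix := Cores.map_pPrimeCore_equiv (p := 3) (D.X.normalizerMonoidHom ⟨h, hh⟩)
      refine Subgroup.mem_normalizer_fintype ?_
      rintro _ ⟨m, hm, rfl⟩
      have hm' : D.X.normalizerMonoidHom ⟨h, hh⟩ m ∈ Cfsg.pPrimeCore 3 D.X := by
        rw [← hfix]; exact ⟨m, hm, rfl⟩
      exact ⟨_, hm', rfl⟩
    have hV := D.le_V hS hMle hM3 (hnorm _ (Subgroup.le_normalizer D.a_mem_X))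
      (hnorm _ (D.normalizer_V_le D.b_mem_normalizer_V))
    rw [eq_bot_iff]
    intro y hy
    obtain ⟨g, rfl⟩ := QuotientGroup.mk'_surjective E1 y
    exact (QuotientGroup.eq_one_iff g).mpr (hV ⟨g, hle hy, rfl⟩)
  -- no invariant Sylow subgroup outside `V`
  have hsyl : ∀ (p : ℕ) [Fact p.Prime], p ≠ 3 → ¬ 3 ∣ Nat.card (Sylow p D.X) →
      ∀ Q : Sylow p D.X, Nat.card (Q : Subgroup D.X) ≤ 4 := by
    intro p _ hp hn Q
    set P := Subgroup.closure ({D.b, D.a} : Set G) with hP
    have hPle : P ≤ Subgroup.normalizer (D.X : Set G) := by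
      rw [hP, Subgroup.closure_le]
      rintro x (rfl | rfl)
      exacts [D.normalizer_V_le D.b_mem_normalizer_V, Subgroup.le_normalizer D.a_mem_X]
    have hPJ : P ≤ D.C.J := by
      rw [hP, Subgroup.closure_le]
      rintro x (rfl | rfl) <;> exact D.C.j_mem _
    have hP3 : IsPGroup 3 P := fun g => ⟨1, by
      rw [pow_one]; exact Subtype.ext (D.C.J_pow _ (hPJ g.2))⟩
    letI : MulDistribMulAction P D.X := MulDistribMulAction.compHom _ (Subgroup.inclusion hPle)
    obtain ⟨R, hR⟩ := hP3.nonempty_fixed_point_of_prime_not_dvd_card (Sylow p D.X) hn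
    set M := (R : Subgroup D.X).map D.X.subtype with hMdef
    have hn : ∀ h ∈ P, h ∈ Subgroup.normalizer (M : Set G) := by
      intro h hh
      refine Subgroup.mem_normalizer_fintype ?_
      rintro _ ⟨m, hm, rfl⟩
      have e : (⟨h, hh⟩ : P) • (R : Subgroup D.X) = R := by
        rw [← Sylow.pointwise_smul_def, hR ⟨h, hh⟩]
      have hm' : (⟨h, hh⟩ : P) • m ∈ (R : Subgroup D.X) :=
        e ▸ Subgroup.smul_mem_pointwise_smul _ _ _ hm
      exact ⟨_, hm', rfl⟩
    have h3 : ¬ 3 ∣ Nat.card M := by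
      rw [Subgroup.card_map_of_injective D.X.subtype_injective, R.card_eq_multiplicity]
      intro h
      exact hp ((Nat.prime_dvd_prime_iff_eq Nat.prime_three Fact.out).mp
        (Nat.prime_three.dvd_of_dvd_pow h)).symm
    have hle := D.le_V hS (Subgroup.map_subtype_le _) h3
      (hn _ (Subgroup.subset_closure (by simp))) (hn _ (Subgroup.subset_closure (by simp)))
    have hc := Subgroup.card_le_of_le hle
    rwa [D.card_V, Subgroup.card_map_of_injective D.X.subtype_injective,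
      R.card_eq_multiplicity, ← Q.card_eq_multiplicity] at hc
  have hcardX : Nat.card D.X = Nat.card (D.X ⧸ E1) * 4 := by
    rw [← hE1c, ← Subgroup.card_eq_card_quotient_mul_card_subgroup]
  have hidx : Nat.card (D.X ⧸ E1) = 3 ∨ Nat.card (D.X ⧸ E1) = 6 := by
    rcases shape hSC with ⟨N, hN, hN3, hi⟩ | ⟨N, hN, hexp, h60, hsimp⟩ | ⟨h168, hsimp⟩
    · rw [hbot N hN hN3, Subgroup.index_bot] at hi
      exact hi
    · exfalso
      have hN2 : IsPGroup 2 N := fun g => ⟨1, by rw [pow_one]; exact Subtype.ext (hexp g g.2)⟩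
      obtain ⟨k, hk⟩ := hN2.exists_card_eq
      have hNb : N = ⊥ := hbot N hN (by
        rw [hk]
        intro h
        exact absurd (Nat.prime_three.dvd_of_dvd_pow h) (by norm_num))
      subst hNb
      set q := QuotientGroup.quotientBot (G := D.X ⧸ E1)
      have h60' : Nat.card (D.X ⧸ E1) = 60 := by rw [← h60]; exact (Nat.card_congr q.toEquiv).symm
      haveI := hsimp
      haveI : Nontrivial (D.X ⧸ E1) := Finite.one_lt_card_iff_nontrivial.mp (by omega)
      haveI : IsSimpleGroup (D.X ⧸ E1) := IsSimpleGroup.isSimpleGroup_of_surjective q.toMonoidHom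
        q.surjective
      obtain ⟨Y, hY, hY4⟩ := exists_inv_four h60' hSC
      set R := Y.comap (QuotientGroup.mk' E1)
      have hRc : Nat.card R = 16 := by
        rw [show 16 = Nat.card E1 * Nat.card Y by rw [hE1c, hY4]]
        exact Nat.card_congr (QuotientGroup.preimageMkEquivSubgroupProdSet E1 (Y : Set _)) |>.trans
          (Nat.card_prod _ _)
      have hXc : Nat.card D.X = 240 := by rw [hcardX, h60']
      have hf : (Nat.card D.X).factorization 2 = 4 := by
        rw [hXc]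
        have : (240 : ℕ) = 2 ^ 4 * 15 := by norm_num
        rw [this, Nat.factorization_mul (by norm_num) (by norm_num), Finsupp.add_apply,
          Nat.Prime.factorization_pow Nat.prime_two, Finsupp.single_eq_same,
          Nat.factorization_eq_zero_of_not_dvd (by norm_num : ¬ 2 ∣ 15)]
      set Q : Sylow 2 D.X := Sylow.ofCard R (by rw [hRc, hf]; norm_num)
      have hzn : za ∈ Subgroup.normalizer ((Q : Subgroup D.X) : Set D.X) := by
        refine Subgroup.mem_normalizer_iff.mpr fun g => ?_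
        show (g : D.X ⧸ E1) ∈ Y ↔ ((za * g * za⁻¹ : D.X) : D.X ⧸ E1) ∈ Y
        simp only [QuotientGroup.mk_mul, QuotientGroup.mk_inv]
        exact Subgroup.mem_normalizer_iff.mp hY.2 _
      have hn2 : ¬ 3 ∣ Nat.card (Sylow 2 D.X) := by
        rw [Q.card_eq_index_normalizer]
        set N := Subgroup.normalizer ((Q : Subgroup D.X) : Set D.X)
        have h3 : 3 ∣ Nat.card N := by
          have := N.orderOf_dvd_natCard hzn
          rwa [orderOf_eq_prime (Subtype.ext D.a_pow : za ^ 3 = 1)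
            (fun h => hSC.ne_one (by rw [h, QuotientGroup.mk_one]))] at this
        have h16 : 16 ∣ Nat.card N := hRc ▸ Subgroup.card_dvd_of_le
          (Subgroup.le_normalizer (H := (Q : Subgroup D.X)))
        obtain ⟨m, hm⟩ := Nat.Coprime.mul_dvd_of_dvd_of_dvd (by norm_num) h3 h16
        have := N.card_mul_index
        rw [hm, hXc] at this
        intro hd
        obtain ⟨l, hl⟩ := hd
        change N.index = 3 * l at hl
        rw [hl] at this
        have h5 : m * l * 3 = 5 := by nlinarith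
        omega
      have := hsyl 2 (by norm_num) hn2 Q
      have h16 : Nat.card (Q : Subgroup D.X) = 16 := hRc
      omega
    · exfalso
      have hXc : Nat.card D.X = 672 := by rw [hcardX, h168]
      obtain ⟨Q⟩ := (Sylow.nonempty : Nonempty (Sylow 7 D.X))
      have hQc : Nat.card (Q : Subgroup D.X) = 7 := by
        rw [Q.card_eq_multiplicity, hXc]
        have : (672 : ℕ) = 7 ^ 1 * 96 := by norm_num
        rw [this, Nat.factorization_mul (by norm_num) (by norm_num), Finsupp.add_apply,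
          Nat.Prime.factorization_pow (by norm_num : Nat.Prime 7), Finsupp.single_eq_same,
          Nat.factorization_eq_zero_of_not_dvd (by norm_num : ¬ 7 ∣ 96)]
        norm_num
      have hd : Nat.card (Sylow 7 D.X) ∣ 96 := by
        have h := Q.card_dvd_index
        have hi := (Q : Subgroup D.X).card_mul_index
        rw [hQc, hXc] at hi
        rwa [show (Q : Subgroup D.X).index = 96 by omega] at h
      have hm : Nat.card (Sylow 7 D.X) % 7 = 1 := card_sylow_modEq_one 7 D.X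
      have hlt : Nat.card (Sylow 7 D.X) < 97 := Nat.lt_succ_of_le (Nat.le_of_dvd (by norm_num) hd)
      have := hsyl 7 (by norm_num)
        (fun h => seven_sylow ⟨_, hlt⟩ hd hm (Nat.mod_eq_zero_of_dvd h)) Q
      omega
  have h24 : Nat.card D.X ≤ 24 := by omega
  -- the product exhausts it
  have hmem : ∀ s, InS s → D.e' s ∈ D.X := by
    rintro _ ⟨i, ε, rfl⟩
    refine D.mem_L.mp (mul_mem (pow_mem D.c_mem_L _) ?_)
    cases ε
    · exact one_mem _
    · exact D.mem_L.mpr D.i_mem_X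
  let f : {v : A6 // InV v} × {s : A6 // InS s} → D.X := fun p =>
    ⟨D.e p.1.1 * D.e' p.2.1, mul_mem (D.V_le_X (D.e_mem_V p.1.2)) (hmem _ p.2.2)⟩
  have hf : Function.Injective f := by
    rintro ⟨⟨v, hv⟩, ⟨s, hs⟩⟩ ⟨⟨w, hw⟩, ⟨r, hr⟩⟩ h
    have h' : D.e v * D.e' s = D.e w * D.e' r := congrArg Subtype.val h
    have h1 : D.e (1 * w⁻¹ * v) = D.e' (r * s⁻¹) := by
      simp only [map_mul, map_inv, one_mul, map_one]
      calc (D.e w)⁻¹ * D.e v = (D.e w)⁻¹ * (D.e v * D.e' s) * (D.e' s)⁻¹ := by group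
        _ = _ := by rw [h']; group
    have hwv : InV (1 * w⁻¹ * v) := by
      have := v_facts.2.2.2.1 _ _ (v_facts.2.2.2.1 1 w (Or.inl rfl) hw)
        (v_facts.2.2.2.1 1 v (Or.inl rfl) hv)
      rwa [one_mul v⁻¹, inv_inv] at this
    have h2 : 1 * w⁻¹ * v = 1 := v_facts.2.2.2.2.2.2.1 _ hwv (D.e_injective (by
      rw [map_mul D.e _ b6, map_mul D.e b6 _, D.e_b, h1]; exact (D.b_comm_e' _).symm.eq))
    rw [h2, map_one] at h1
    have h3 : r * s⁻¹ = 1 := D.e'_injective (by rw [← h1, map_one])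
    rw [one_mul] at h2
    simp only [Prod.mk.injEq, Subtype.mk.injEq]
    exact ⟨(inv_mul_eq_one.mp h2).symm, (mul_inv_eq_one.mp h3).symm⟩
  have hsurj : Function.Surjective f := by
    refine ((Nat.bijective_iff_injective_and_card f).mpr ⟨hf, le_antisymm ?_ ?_⟩).2
    · exact Nat.card_le_card_of_injective f hf
    · refine h24.trans (le_of_eq ?_)
      rw [Nat.card_eq_fintype_card]; decide +kernel
  obtain ⟨⟨v, s⟩, he⟩ := hsurj ⟨x, hx⟩
  exact ⟨v.1, s.1, v.2, s.2, (congrArg Subtype.val he).symm⟩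

end Big

end Cfsg.Agent.Lib.A9Split79
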