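import Cfsg.Agent.Lib.A9Split79.Tri

/-!
# The centraliser of a four-group of the six-point group
-/

set_option autoImplicit false

namespace Cfsg.Agent.Lib.A9Split79

open Equiv A9Norm79 A9Norm79.Model A9Norm79.ModelII

universe u

def v1 : A6 := ⟨swap 0 1 * swap 2 3, Equiv.Perm.mem_alternatingGroup.mpr (by decide +kernel)⟩
def v2 : A6 := ⟨swap 0 2 * swap 1 3, Equiv.Perm.mem_alternatingGroup.mpr (by decide +kernel)⟩
def g4 : A6 := ⟨swap 2 3 * swap 4 5, Equiv.Perm.mem_alternatingGroup.mpr (by decide +kernel)⟩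

/-- Membership in the four-group. -/
def InV (x : A6) : Prop := x = 1 ∨ x = v1 ∨ x = v2 ∨ x = v1 * v2

instance : DecidablePred InV := fun _ => inferInstanceAs (Decidable (_ ∨ _))

theorem v_facts : v1 * v1 = 1 ∧ v2 * v2 = 1 ∧ v1 * v2 = v2 * v1 ∧
    (∀ x y : A6, InV x → InV y → InV (x * y⁻¹)) ∧
    (∀ x : A6, x * v1 = v1 * x → x * v2 = v2 * x → InV x) ∧
    (∀ x : A6, InV x → InV (b6 * x * b6⁻¹) ∧ InV (b6⁻¹ * x * b6)) ∧
    (∀ x : A6, InV x → x * b6 = b6 * x → x = 1) ∧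
    InV (b6 * y6 * b6 * y6) := by decide +kernel

/-- Membership in the symmetric group on the second block. -/
def InS (x : A6) : Prop := ∃ i : Fin 3, ∃ ε : Bool, x = c6 ^ (i : ℕ) * (if ε then i6 else 1)

instance : DecidablePred InS := fun x =>
  inferInstanceAs (Decidable (∃ i : Fin 3, ∃ ε : Bool, x = c6 ^ (i : ℕ) * (if ε then i6 else 1)))

theorem S_facts : (∀ x : A6, InS x → ∃ i : Fin 3, x * c6 * x⁻¹ * c6⁻¹ = c6 ^ (i : ℕ)) := by
  decide +kernel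

/-- Words reducing an element to a decisive one. -/
def words : List (List (Fin 3)) := [
  [0, 0, 1, 0, 0, 0, 1, 0, 0],
  [0, 0, 0, 2, 0, 0, 2, 0, 2],
  [0, 1, 0, 0, 0, 0, 1, 0, 1],
  [1, 0, 0, 2, 1, 0, 2, 1, 0],
  [0, 0, 0, 2, 0, 0, 2, 0],
  [0, 0, 0, 1, 0, 1, 0, 2, 1],
  [0, 0, 1, 0, 1, 0, 1, 0, 0],
  [0, 2, 0, 0, 1, 2, 0, 1, 0],
  [0, 0, 1, 0, 1, 1, 0, 2],
  [0, 1, 0, 2, 0, 0, 1, 2, 0],
  [2, 0, 1, 0, 0, 0, 1, 1, 0],
  [0, 0, 1, 0, 1, 0, 0],
  [0, 0, 1, 0, 0, 0, 1],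
  [0, 2, 0, 0, 2, 0, 2, 0],
  [0, 2, 0, 2, 0, 0, 2, 0, 1],
  [0, 0, 1, 1, 0, 0, 0, 1, 1],
  [2, 0, 1, 2, 0, 2, 1, 0],
  [2, 1, 0, 0, 1, 1, 0, 2],
  [2, 0, 1, 0, 1, 1, 0, 2],
  [2, 0, 2, 1, 0, 1, 2, 0],
  [1, 0, 1, 1, 0, 1, 0, 1, 1],
  [2, 0, 1, 0, 0, 2, 1],
  [0, 2, 0, 1, 2, 0, 2, 1],
  [1, 0, 0, 0, 1, 0, 0],
  [0, 0, 0, 2, 0, 1, 2, 0],
  [2, 0, 0, 1, 1, 0, 1, 2],
  [1, 1, 0, 1, 0, 1, 1, 0, 1],
  [0, 0, 1, 0, 1],
  [0, 2, 0, 2, 1, 0, 2, 0]]

theorem reduce : ∀ x : A6, ¬ InS x → ∃ l ∈ words,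
    (l.map ![x, c6, i6]).prod = g4 ∨ (l.map ![x, c6, i6]).prod = y6 ∨
      ((l.map ![x, c6, i6]).prod * c6 = c6 * (l.map ![x, c6, i6]).prod ∧
        ∀ i : Fin 3, (l.map ![x, c6, i6]).prod ≠ c6 ^ (i : ℕ)) := by
  decide +kernel

/-- Indices of the shifted involution. -/
def wi' : W := mulW (mulW ir wi) (powW ir 2)

theorem shift_facts : el ir * jel (1, 0, 0) * (el ir)⁻¹ = jel (0, 1, 0) ∧
    el ir * jel (0, 0, 1) * (el ir)⁻¹ = jel (1, 0, 0) ∧
    el ir * jel (0, 1, 0) * (el ir)⁻¹ = jel (0, 0, 1) ∧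
    el ir * el wi * (el ir)⁻¹ = el wi' := by decide +kernel

/-- The triples of the four-group and of the shifted involution. -/
theorem comm_triples : ∀ v : A6, InV v → ∃ p : Tri, phi p = el wi' ∧
    phi p * phi (0, v, false) = phi (0, v, false) * phi p := by
  intro v hv
  refine ⟨(0, i6, true),
    ?_⟩
  revert v
  decide +kernel

namespace Big

variable {G : Type u} [Group G] [Finite G] (D : Big G)

/-- The second three-cycle. -/
def b : G := D.C.j (0, 1, 0)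

/-- The shifted embedding of the six-point group. -/
noncomputable def e' : A6 →* G := (MulAut.conj D.C.r).toMonoidHom.comp D.e

theorem e'_apply (x : A6) : D.e' x = D.C.r * D.e x * D.C.r⁻¹ := rfl

theorem e'_injective : Function.Injective D.e' := (MulAut.conj D.C.r).injective.comp D.e_injective

theorem e'_b : D.e' b6 = D.C.j (0, 0, 1) := by
  rw [e'_apply, D.e_b]; exact D.conj_eq shift_facts.2.2.1

theorem e'_c : D.e' c6 = D.a := by
  rw [e'_apply, D.e_c]; exact D.conj_eq shift_facts.2.1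

theorem e'_i : D.e' i6 = D.C.E wi' := by
  rw [e'_apply, D.e_i]; exact D.E_rel shift_facts.2.2.2

theorem conj_r_a : D.C.r * D.a * D.C.r⁻¹ = D.b := D.conj_eq shift_facts.1

theorem b_comm_e' (x : A6) : Commute D.b (D.e' x) := by
  rw [← D.conj_r_a, e'_apply]
  exact (D.comm_a (D.e_mem x)).map (MulAut.conj D.C.r).toMonoidHom

theorem e_comm_a (x : A6) : Commute D.a (D.e x) := D.comm_a (D.e_mem x)

theorem a_comm_b : Commute D.a D.b := D.C.j_comm _ _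

theorem psi_pair (v : A6) : D.psi (0, v, false) = D.e v := by
  simp only [psi, tri, Bool.false_eq_true, if_false, mul_one]
  rw [show D.C.j (0, 0, 0) = 1 from D.C.j_zero, one_mul]

theorem psi_comm {p q : Tri} (h : phi p * phi q = phi q * phi p) :
    Commute (D.psi p) (D.psi q) := by
  show D.psi p * D.psi q = D.psi q * D.psi p
  rw [psi_mul, psi_mul]
  exact congrArg D.psi (phi_injective (by rw [← phi_mul, ← phi_mul, h]))

/-- The four-group. -/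
noncomputable def V : Subgroup G where
  carrier := {g | ∃ v, InV v ∧ D.e v = g}
  one_mem' := ⟨1, Or.inl rfl, map_one _⟩
  mul_mem' := by
    rintro _ _ ⟨v, hv, rfl⟩ ⟨w, hw, rfl⟩
    have h1 := v_facts.2.2.2.1 1 w (Or.inl rfl) hw
    have h2 := v_facts.2.2.2.1 v _ hv h1
    exact ⟨_, h2, by rw [one_mul, inv_inv, map_mul]⟩
  inv_mem' := by
    rintro _ ⟨v, hv, rfl⟩
    exact ⟨1 * v⁻¹, v_facts.2.2.2.1 1 v (Or.inl rfl) hv, by rw [one_mul, map_inv]⟩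

theorem mem_V {g : G} : g ∈ D.V ↔ ∃ v, InV v ∧ D.e v = g := Iff.rfl

theorem e_mem_V {v : A6} (hv : InV v) : D.e v ∈ D.V := ⟨v, hv, rfl⟩

theorem v_inV : InV v1 ∧ InV v2 := ⟨Or.inr (Or.inl rfl), Or.inr (Or.inr (Or.inl rfl))⟩

/-- The centraliser of the four-group. -/
noncomputable def X : Subgroup G := Subgroup.centralizer (D.V : Set G)

theorem mem_X {g : G} : g ∈ D.X ↔ ∀ v, InV v → Commute g (D.e v) := by
  rw [X, Subgroup.mem_centralizer_iff]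
  refine ⟨fun h v hv => (h _ (D.e_mem_V hv)).symm, ?_⟩
  rintro h _ ⟨v, hv, rfl⟩
  exact (h v hv).symm

theorem V_le_X : D.V ≤ D.X := by
  rintro _ ⟨v, hv, rfl⟩
  refine D.mem_X.mpr fun w hw => Commute.map ?_ D.e
  have h := v_facts.2.2.1
  rcases hv with rfl | rfl | rfl | rfl <;> rcases hw with rfl | rfl | rfl | rfl <;>
    (show _ * _ = _ * _) <;> decide +kernel

theorem a_mem_X : D.a ∈ D.X := D.mem_X.mpr fun v _ => D.e_comm_a v

theorem i_mem_X : D.e' i6 ∈ D.X := by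
  refine D.mem_X.mpr fun v hv => ?_
  obtain ⟨p, hp, hc⟩ := comm_triples v hv
  rw [e'_i, ← D.psi_agree hp, ← D.psi_pair v]
  exact D.psi_comm hc

theorem mem_of_comm_a {g : G} (hg : g ∈ D.X) (h : Commute g D.a) :
    ∃ i : Fin 3, ∃ v, InV v ∧ g = D.a ^ (i : ℕ) * D.e v := by
  obtain ⟨i, k, hk, rfl⟩ := D.decomp (Subgroup.mem_centralizer_singleton_iff.mpr h.eq)
  obtain ⟨y, rfl⟩ := D.exists_e_eq hk
  have hc : ∀ v, InV v → y * v = v * y := fun v hv => D.e_injective (by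
    rw [map_mul, map_mul]
    refine mul_left_cancel (a := D.a ^ (i : ℕ)) ?_
    have h1 := (D.mem_X.mp hg v hv).eq
    rw [mul_assoc] at h1
    rw [h1, ← mul_assoc, ← mul_assoc, ((D.e_comm_a v).pow_left _).eq])
  exact ⟨i, y, v_facts.2.2.2.2.1 y (hc _ v_inV.1) (hc _ v_inV.2), rfl⟩

/-- The part of the shifted group inside the centraliser. -/
noncomputable def L : Subgroup A6 := D.X.comap D.e'

theorem mem_L {y : A6} : y ∈ D.L ↔ D.e' y ∈ D.X := Iff.rfl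

theorem c_mem_L : c6 ∈ D.L := by rw [mem_L, e'_c]; exact D.a_mem_X

theorem L_cent {y : A6} (hy : y ∈ D.L) (h : y * c6 = c6 * y) : ∃ i : Fin 3, y = c6 ^ (i : ℕ) := by
  have hca : Commute (D.e' y) D.a := by rw [← e'_c]; exact Commute.map h D.e'
  obtain ⟨i, v, hv, he⟩ := D.mem_of_comm_a hy hca
  have hb : Commute (D.e v) D.b := by
    have : D.e v = (D.a ^ (i : ℕ))⁻¹ * D.e' y := by rw [he, inv_mul_cancel_left]
    rw [this]
    exact ((D.a_comm_b.pow_left _).inv_left).mul_left (D.b_comm_e' y).symm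
  have hv1 : v = 1 := v_facts.2.2.2.2.2.2.1 v hv (D.e_injective (by
    rw [map_mul, map_mul, D.e_b]; exact hb.eq))
  refine ⟨i, D.e'_injective ?_⟩
  rw [map_pow, e'_c, he, hv1, map_one, mul_one]

/-- The three possibilities. -/
theorem L_cases : g4 ∈ D.L ∨ y6 ∈ D.L ∨ ∀ y ∈ D.L, InS y := by
  by_contra hcon
  simp only [not_or, not_forall] at hcon
  obtain ⟨h1, h2, y, hy, hyS⟩ := hcon
  obtain ⟨l, -, hl⟩ := reduce y hyS
  have hp : (l.map ![y, c6, i6]).prod ∈ D.L := by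
    refine list_prod_mem fun z hz => ?_
    obtain ⟨j, -, rfl⟩ := List.mem_map.mp hz
    fin_cases j
    exacts [hy, D.c_mem_L, D.mem_L.mpr D.i_mem_X]
  rcases hl with h | h | ⟨hc, hn⟩
  · exact h1 (h ▸ hp)
  · exact h2 (h ▸ hp)
  · obtain ⟨i, hi⟩ := D.L_cent hp hc
    exact hn i hi

end Big

end Cfsg.Agent.Lib.A9Split79
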