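import Cfsg.Agent.Lib.A9Split79.Collapse

/-!
# The alternating group of degree nine inside the group
-/

set_option autoImplicit false
set_option maxHeartbeats 800000

namespace Cfsg.Agent.Lib.A9Split79

open Equiv A9Norm79 A9Norm79.Model A9Norm79.ModelII

universe u

def s01 : A6 := ⟨swap 0 1 * swap 1 2, Equiv.Perm.mem_alternatingGroup.mpr (by decide +kernel)⟩
def s13 : A6 := ⟨swap 1 3 * swap 3 2, Equiv.Perm.mem_alternatingGroup.mpr (by decide +kernel)⟩
def s1234 : A6 := ⟨swap 1 2 * swap 3 4, Equiv.Perm.mem_alternatingGroup.mpr (by decide +kernel)⟩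
def s1245 : A6 := ⟨swap 1 2 * swap 4 5, Equiv.Perm.mem_alternatingGroup.mpr (by decide +kernel)⟩
def s0134 : A6 := ⟨swap 0 1 * swap 3 4, Equiv.Perm.mem_alternatingGroup.mpr (by decide +kernel)⟩
def s0145 : A6 := ⟨swap 0 1 * swap 4 5, Equiv.Perm.mem_alternatingGroup.mpr (by decide +kernel)⟩

/-- Moore's generators as triples (except the second). -/
def ptab : Fin 7 → Tri :=
  ![(1, 1, false), (0, 1, false), (1, s01, true), (1, 1, true), (1, s13, true), (1, s1234, true),
    (1, s1245, true)]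

/-- Moore's generators as shifted triples (except the fifth). -/
def qtab : Fin 7 → Tri :=
  ![(0, s01, false), (0, v1, false), (0, s0134, false), (0, s0145, false), (0, 1, false),
    (1, s01, true), (0, s01, true)]

/-- Moore's generator. -/
abbrev mg (i : Fin 7) : P9 := Spectrum.CoxeterAlt.altGen (k := 7) i

theorem tab_facts : (∀ i : Fin 7, i ≠ 1 → phi (ptab i) = mg i) ∧
    (∀ i : Fin 7, i ≠ 4 → el ir * el ir * phi (qtab i) * (el ir * el ir)⁻¹ = mg i) ∧
    (∀ i : Fin 7, i ≠ 1 → i ≠ 4 → ∃ w : W, el w = mg i) ∧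
    ptab 4 = tmul (ptab 6) (0, g4, false) ∧ qtab 1 = (0, v1, false) := by
  refine ⟨?_, ?_, ?_, ?_, ?_⟩ <;> decide +kernel

theorem mg_rel : mg 0 ^ 3 = 1 ∧ (∀ i : Fin 7, 1 ≤ (i : ℕ) → mg i ^ 2 = 1) ∧
    (∀ i j : Fin 7, (j : ℕ) = i + 1 → (mg i * mg j) ^ 3 = 1) ∧
    (∀ i j : Fin 7, (i : ℕ) + 1 < j → (mg i * mg j) ^ 2 = 1) ∧
    (∀ i : Fin 7, Perm.sign (mg i) = 1) := by decide +kernel

/-- Words for generators of the normaliser. -/
def genW : Fin 7 → W × List (Fin 7) :=
  ![(((1, 0, 0), (0, 0)), [0]), (((0, 1, 0), (0, 0)), [2, 3]), (((0, 0, 1), (0, 0)), [5, 6]),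
    (wt, [3, 0]), (wq, [3, 4, 3, 2, 5, 4, 3, 6, 5, 4]), (wsw, [4, 0, 3, 2, 5, 4, 3, 6, 5, 4]),
    (((0, 0, 0), k1), [1, 0, 2, 1, 0, 3, 2, 1, 6])]

/-- Five-letter products of the block parts. -/
def kGen : Fin 5 → Fin 4 × Fin 6 := ![(0, 0), wt.2, wq.2, wsw.2, k1]

theorem genW_facts : (∀ g : Fin 7, ((genW g).2.map mg).prod = el (genW g).1) ∧
    (∀ g : Fin 7, g ≠ 6 → ∀ i ∈ (genW g).2, i ≠ 1) ∧ (∀ i ∈ (genW 6).2, i ≠ 4) ∧
    (∀ k : Fin 4 × Fin 6, ∃ g₁ g₂ g₃ g₄ g₅ : Fin 5,
      kmul (kmul (kmul (kmul (kGen g₁) (kGen g₂)) (kGen g₃)) (kGen g₄)) (kGen g₅) = k) ∧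
    (∀ g : Fin 5, ∃ w : W, w.1 = (0, 0, 0) ∧ w.2 = kGen g ∧
      (w = oneW ∨ ∃ h : Fin 7, (genW h).1 = w)) := by
  refine ⟨?_, ?_, ?_, ?_, ?_⟩ <;> decide +kernel

namespace Big

variable {G : Type u} [Group G] [Finite G] (D : Big G)

/-- The shift to the other domain. -/
noncomputable def shiftR : G ≃* G := MulAut.conj (D.C.r * D.C.r)

theorem shiftR_psi {q : Tri} {w : W} (h : el ir * el ir * phi q * (el ir * el ir)⁻¹ = el w) :
    D.shiftR (D.psi q) = D.C.E w := by
  have hw : phi q = el (mulW (mulW (powW ir 1) w) (powW ir 2)) := by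
    rw [el_mulW, el_mulW, el_powW, el_powW, ← h]
    have h3 : el ir ^ 3 = 1 := ir_facts.1
    calc phi q = el ir ^ 3 * phi q := by rw [h3, one_mul]
      _ = _ := by simp only [pow_succ, pow_zero, one_mul]; group
  rw [D.psi_agree hw, shiftR, MulAut.conj_apply]
  simp only [Cfg.E_mulW, Cfg.E_powW]
  have h3 := D.C.r_pow
  show D.C.r * D.C.r * (D.C.r ^ 1 * D.C.E w * D.C.r ^ 2) * (D.C.r * D.C.r)⁻¹ = D.C.E w
  calc D.C.r * D.C.r * (D.C.r ^ 1 * D.C.E w * D.C.r ^ 2) * (D.C.r * D.C.r)⁻¹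
      = D.C.r ^ 3 * D.C.E w := by simp only [pow_succ, pow_zero, one_mul]; group
    _ = _ := by rw [h3, one_mul]

/-- The images of Moore's generators. -/
noncomputable def mX (i : Fin 7) : G :=
  if i = 1 then D.shiftR (D.psi (qtab 1)) else D.psi (ptab i)

theorem mX_psi {i : Fin 7} (hi : i ≠ 1) : D.mX i = D.psi (ptab i) := if_neg hi

theorem mX_shift {i : Fin 7} (hi : i ≠ 4) : D.mX i = D.shiftR (D.psi (qtab i)) := by
  by_cases h1 : i = 1
  · subst h1; exact if_pos rfl
  obtain ⟨w, hw⟩ := tab_facts.2.2.1 i h1 hi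
  rw [D.mX_psi h1, D.psi_agree ((tab_facts.1 i h1).trans hw.symm),
    D.shiftR_psi ((tab_facts.2.1 i hi).trans hw.symm)]

theorem shift_rel {i j : Fin 7} (hi : i ≠ 4) (hj : j ≠ 4) {n : ℕ} (h : (mg i * mg j) ^ n = 1) :
    (D.mX i * D.mX j) ^ n = 1 := by
  rw [D.mX_shift hi, D.mX_shift hj, ← map_mul, ← map_pow, D.psi_mul_pow ?_, map_one]
  rw [← tab_facts.2.1 i hi, ← tab_facts.2.1 j hj, ← MulAut.conj_apply, ← MulAut.conj_apply,
    ← map_mul, ← map_pow] at h
  exact (MulEquiv.map_eq_one_iff _).mp h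

theorem block_rel {i j : Fin 7} (hi : i ≠ 1) (hj : j ≠ 1) {n : ℕ} (h : (mg i * mg j) ^ n = 1) :
    (D.mX i * D.mX j) ^ n = 1 := by
  rw [D.mX_psi hi, D.mX_psi hj]
  exact D.psi_mul_pow (by rw [tab_facts.1 i hi, tab_facts.1 j hj]; exact h)

theorem mX_self {i : Fin 7} {n : ℕ} (h : mg i ^ n = 1) : D.mX i ^ n = 1 := by
  by_cases h1 : i = 1
  · subst h1
    rw [D.mX_shift (by decide), ← map_pow, D.psi_pow_eq_one ?_, map_one]
    rw [← tab_facts.2.1 1 (by decide), ← MulAut.conj_apply, ← map_pow] at h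
    exact (MulEquiv.map_eq_one_iff _).mp h
  · rw [D.mX_psi h1]
    exact D.psi_pow_eq_one (by rw [tab_facts.1 i h1]; exact h)

theorem crossing (hg : g4 ∈ D.L) : (D.mX 1 * D.mX 4) ^ 2 = 1 := by
  set u := D.mX 1
  set v := D.mX 6
  set g := D.e g4
  have h4 : D.mX 4 = v * g := by
    rw [D.mX_psi (by decide), tab_facts.2.2.2.1, ← psi_mul, psi_false, ← D.mX_psi (by decide)]
  have huv : Commute u v := by
    have hu : u * u = 1 := by rw [← pow_two]; exact D.mX_self (mg_rel.2.1 1 (by decide))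
    have hv : v * v = 1 := by rw [← pow_two]; exact D.mX_self (mg_rel.2.1 6 (by decide))
    have h := D.shift_rel (i := 1) (j := 6) (by decide) (by decide) (mg_rel.2.2.2.1 1 6 (by decide))
    rw [pow_two] at h
    calc u * v = (u * v)⁻¹ := eq_inv_of_mul_eq_one_left h
      _ = v⁻¹ * u⁻¹ := mul_inv_rev u v
      _ = v * u := by rw [inv_eq_of_mul_eq_one_right hu, inv_eq_of_mul_eq_one_right hv]
  have hug : Commute u g := by
    have hc : Commute (D.C.r * g * D.C.r⁻¹) (D.e v1) := D.mem_X.mp hg v1 v_inV.1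
    have := hc.map D.shiftR.toMonoidHom
    simp only [MulEquiv.coe_toMonoidHom] at this
    have hu : u = D.shiftR (D.e v1) := by
      show D.mX 1 = _
      rw [D.mX_shift (by decide), tab_facts.2.2.2.2, psi_false]
    rw [← hu, shiftR, MulAut.conj_apply,
      show D.C.r * D.C.r * (D.C.r * g * D.C.r⁻¹) * (D.C.r * D.C.r)⁻¹ =
        D.C.r ^ 3 * g * (D.C.r ^ 3)⁻¹ by simp only [pow_succ, pow_zero, one_mul]; group,
      D.C.r_pow, one_mul, inv_one, mul_one] at this
    exact this.symm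
  have hu2 : u ^ 2 = 1 := D.mX_self (mg_rel.2.1 1 (by decide))
  have h42 : D.mX 4 ^ 2 = 1 := D.mX_self (mg_rel.2.1 4 (by decide))
  have hc : Commute u (D.mX 4) := h4 ▸ huv.mul_right hug
  rw [hc.mul_pow, hu2, h42, one_mul]

theorem word_psi {l : List (Fin 7)} (hl : ∀ i ∈ l, i ≠ 1) :
    ∃ p, (l.map mg).prod = phi p ∧ (l.map D.mX).prod = D.psi p := by
  induction l with
  | nil => exact ⟨(0, 1, false), phi_one.symm, D.psi_one.symm⟩
  | cons i l ih =>
    obtain ⟨p, h1, h2⟩ := ih fun x hx => hl x (List.mem_cons_of_mem _ hx)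
    have hi := hl i List.mem_cons_self
    refine ⟨tmul (ptab i) p, ?_, ?_⟩
    · rw [List.map_cons, List.prod_cons, h1, ← tab_facts.1 i hi, phi_mul]
    · rw [List.map_cons, List.prod_cons, h2, D.mX_psi hi, psi_mul]

theorem word_shift {l : List (Fin 7)} (hl : ∀ i ∈ l, i ≠ 4) :
    ∃ p, (l.map mg).prod = el ir * el ir * phi p * (el ir * el ir)⁻¹ ∧
      (l.map D.mX).prod = D.shiftR (D.psi p) := by
  induction l with
  | nil => exact ⟨(0, 1, false), by simp [phi_one], by simp [psi_one]⟩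
  | cons i l ih =>
    obtain ⟨p, h1, h2⟩ := ih fun x hx => hl x (List.mem_cons_of_mem _ hx)
    have hi := hl i List.mem_cons_self
    refine ⟨tmul (qtab i) p, ?_, ?_⟩
    · rw [List.map_cons, List.prod_cons, h1, ← tab_facts.2.1 i hi, ← phi_mul]
      group
    · rw [List.map_cons, List.prod_cons, h2, D.mX_shift hi, ← map_mul, psi_mul]

theorem gen_agree (g : Fin 7) : ((genW g).2.map D.mX).prod = D.C.E (genW g).1 := by
  by_cases h : g = 6
  · subst h
    obtain ⟨p, h1, h2⟩ := D.word_shift genW_facts.2.2.1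
    rw [h2, D.shiftR_psi (h1.symm.trans (genW_facts.1 6))]
  · obtain ⟨p, h1, h2⟩ := D.word_psi (genW_facts.2.1 g h)
    rw [h2, D.psi_agree (h1.symm.trans (genW_facts.1 g))]

/-- The homomorphism from the alternating group of degree nine. -/
theorem exists_alt_hom :
    ∃ f : alternatingGroup (Fin 9) →* G, Function.Injective f ∧
      ∀ h : H0, f ⟨(h : P9), h.2.1⟩ = D.C.φ h := by
  classical
  rcases D.L_cases with hg | hy | hS
  · obtain ⟨f, hf⟩ := exists_hom_alt (k := 7) D.mX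
      (fun i hi => by rw [show i = 0 from Fin.ext hi]; exact D.mX_self mg_rel.1)
      (fun i hi => D.mX_self (mg_rel.2.1 i hi))
      (fun i j hij => by
        have h := mg_rel.2.2.1 i j hij
        by_cases h1 : i = 1 ∨ j = 1
        · refine D.shift_rel ?_ ?_ h <;> intro hc <;> subst hc <;>
            rcases h1 with h1 | h1 <;> simp [Fin.ext_iff] at h1 hij ⊢ <;> omega
        · push Not at h1
          exact D.block_rel h1.1 h1.2 h)
      (fun i j hij => by
        have h := mg_rel.2.2.2.1 i j hij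
        by_cases h14 : i = 1 ∧ j = 4
        · rw [h14.1, h14.2]; exact D.crossing hg
        by_cases h1 : i = 1 ∨ j = 1
        · refine D.shift_rel ?_ ?_ h <;> intro hc <;> subst hc <;>
            rcases h1 with h1 | h1 <;> simp [Fin.ext_iff] at h1 hij h14 ⊢ <;> omega
        · push Not at h1
          exact D.block_rel h1.1 h1.2 h)
    have hword : ∀ l : List (Fin 7), ∀ hm, f ⟨(l.map mg).prod, hm⟩ = (l.map D.mX).prod := by
      intro l
      induction l with
      | nil => intro hm; exact map_one f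
      | cons i l ih =>
        intro hm
        have hl : (l.map mg).prod ∈ alternatingGroup (Fin 9) :=
          list_prod_mem fun x hx => by
            obtain ⟨j, -, rfl⟩ := List.mem_map.mp hx
            exact Equiv.Perm.mem_alternatingGroup.mpr (mg_rel.2.2.2.2 j)
        rw [show (⟨((i :: l).map mg).prod, hm⟩ : alternatingGroup (Fin 9)) =
            ⟨mg i, Equiv.Perm.mem_alternatingGroup.mpr (mg_rel.2.2.2.2 i)⟩ * ⟨(l.map mg).prod, hl⟩ from Subtype.ext (by simp),
          map_mul, ih, hf]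
        simp
    have hag : ∀ w : W, f ⟨el w, (el_mem w).1⟩ = D.C.E w := by
      have hmul : ∀ u v : W, f ⟨el u, (el_mem u).1⟩ = D.C.E u →
          f ⟨el v, (el_mem v).1⟩ = D.C.E v →
          f ⟨el (mulW u v), (el_mem _).1⟩ = D.C.E (mulW u v) := by
        intro u v hu hv
        rw [show (⟨el (mulW u v), (el_mem _).1⟩ : alternatingGroup (Fin 9)) =
          ⟨el u, (el_mem u).1⟩ * ⟨el v, (el_mem v).1⟩ from Subtype.ext (el_mulW u v), map_mul, hu,
          hv, Cfg.E_mulW]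
      have hgen : ∀ g : Fin 7, f ⟨el (genW g).1, (el_mem _).1⟩ = D.C.E (genW g).1 := by
        intro g
        rw [show (⟨el (genW g).1, (el_mem _).1⟩ : alternatingGroup (Fin 9)) =
          ⟨((genW g).2.map mg).prod, genW_facts.1 g ▸ (el_mem _).1⟩ from
            Subtype.ext (genW_facts.1 g).symm, hword, D.gen_agree]
      have hone : f ⟨el oneW, (el_mem _).1⟩ = D.C.E oneW := by
        rw [show (⟨el oneW, (el_mem _).1⟩ : alternatingGroup (Fin 9)) = 1 from Subtype.ext el_oneW,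
          map_one, Cfg.E_oneW]
      have hpow : ∀ g : Fin 7, ∀ n : ℕ,
          f ⟨el (powW (genW g).1 n), (el_mem _).1⟩ = D.C.E (powW (genW g).1 n) := by
        intro g n
        rw [show (⟨el (powW (genW g).1 n), (el_mem _).1⟩ : alternatingGroup (Fin 9)) =
          ⟨el (genW g).1, (el_mem _).1⟩ ^ n from Subtype.ext (el_powW _ n), map_pow, hgen,
          Cfg.E_powW]
      intro w
      obtain ⟨v, k⟩ := w
      obtain ⟨g₁, g₂, g₃, g₄, g₅, hk⟩ := genW_facts.2.2.2.1 k
      have hK : ∀ g : Fin 5, f ⟨el ((0, 0, 0), kGen g), (el_mem _).1⟩ =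
          D.C.E ((0, 0, 0), kGen g) := by
        intro g
        obtain ⟨w, hw1, hw2, hw⟩ := genW_facts.2.2.2.2 g
        have hwe : w = ((0, 0, 0), kGen g) := Prod.ext hw1 hw2
        rw [← hw1] at *
        rcases hw with rfl | ⟨h, rfl⟩
        · rw [← hwe]; exact hone
        · rw [← hwe]; exact hgen h
      have hsplit : (v, k) = mulW (mulW (mulW (powW (genW 0).1 v.1) (powW (genW 1).1 v.2.1))
          (powW (genW 2).1 v.2.2)) ((0, 0, 0), k) := by
        refine el_injective ?_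
        simp only [el_mulW, el_powW]
        have h0 : (genW 0).1 = ((1, 0, 0), (0, 0)) := rfl
        have h1 : (genW 1).1 = ((0, 1, 0), (0, 0)) := rfl
        have h2 : (genW 2).1 = ((0, 0, 1), (0, 0)) := rfl
        rw [h0, h1, h2, el_base, el_base, el_base, jel_gen.1, jel_gen.2.1, jel_gen.2.2.1, el, el,
          jel_gen.2.2.2, one_mul]
        rfl
      have hkk : ((0, 0, 0), k) = mulW (mulW (mulW (mulW ((0, 0, 0), kGen g₁) ((0, 0, 0), kGen g₂))
          ((0, 0, 0), kGen g₃)) ((0, 0, 0), kGen g₄)) ((0, 0, 0), kGen g₅) := by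
        have hz : ∀ k : Fin 4 × Fin 6, ((0, 0, 0) : V3) + act k (0, 0, 0) = (0, 0, 0) := by
          decide +kernel
        simp only [mulW, hz, hk]
      rw [hsplit, hkk]
      exact hmul _ _ (hmul _ _ (hmul _ _ (hpow _ _) (hpow _ _)) (hpow _ _))
        (hmul _ _ (hmul _ _ (hmul _ _ (hmul _ _ (hK _) (hK _)) (hK _)) (hK _)) (hK _))
    refine ⟨f, ?_, fun h => ?_⟩
    · haveI : IsSimpleGroup (alternatingGroup (Fin 9)) := alternatingGroup.isSimpleGroup (by simp)
      rcases IsSimpleGroup.eq_bot_or_eq_top_of_normal f.ker inferInstance with h | h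
      · exact (MonoidHom.ker_eq_bot_iff f).mp h
      · exfalso
        have h1 : D.C.E ((1, 0, 0), (0, 0)) = 1 := by
          rw [← hag]; exact MonoidHom.mem_ker.mp (h ▸ Subgroup.mem_top _)
        rw [← Cfg.E_oneW] at h1
        exact absurd (D.C.E_injective h1) (by decide)
    · obtain ⟨w, hw⟩ := exists_el h.2
      rw [show (⟨(h : P9), h.2.1⟩ : alternatingGroup (Fin 9)) = ⟨el w, (el_mem w).1⟩ from
        Subtype.ext hw.symm, hag]
      exact congrArg D.C.φ (Subtype.ext hw)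
  · exact absurd hy D.y_not_mem_L
  · exact (D.not_small hS).elim

end Big

end Cfsg.Agent.Lib.A9Split79
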