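import Cfsg.Agent.Lib.A9Split79.Core
import Cfsg.Agent.Lib.A9Norm79.Cent
import Cfsg.Agent.Lib.Fusion.Thompson

/-!
# The centraliser of the four-group is not the small one
-/

set_option autoImplicit false
set_option maxHeartbeats 800000

namespace Cfsg.Agent.Lib.A9Split79

open Equiv A9Norm79 A9Norm79.Model A9Norm79.ModelII

universe u

/-- Membership in the dihedral subgroup of the six-point group. -/
def InU (x : A6) : Prop := InV x ∨ InV (x * g4)

instance : DecidablePred InU := fun _ => inferInstanceAs (Decidable (_ ∨ _))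

/-- Membership in the Sylow subgroup of the normaliser of the four-group. -/
def InT (p : Tri) : Prop :=
  p.1 = 0 ∧ if p.2.2 then InU (p.2.1 * i6) else InU p.2.1

instance : DecidablePred InT := fun _ => inferInstanceAs (Decidable (_ ∧ _))

/-- The six-point part of the representative of the second class. -/
def xsw : A6 := ⟨swap 0 3 * (swap 1 4 * swap 2 5) * swap 1 2,
  Equiv.Perm.mem_alternatingGroup.mpr (by decide +kernel)⟩

/-- The index of the representative of the second class. -/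
def wsw : W := ((0, 0, 0), (0, 3))

theorem sw_facts : phi (0, xsw, true) = el wsw ∧ phi (0, i6, true) = el wi' ∧
    el wsw * jel (0, 1, 1) = jel (0, 1, 1) * el wsw ∧ typ ((0, 1, 1) : V3) = 2 := by decide +kernel

theorem U_closed : ∀ x : A6, InU x → ∀ y : A6, InU y → InU (x * y) := by decide +kernel

theorem U_facts : (∀ x : A6, InU x → twist x * i6 = i6 * x) ∧ twist i6 = i6 ∧ i6 * i6 = 1 ∧
    InU v1 ∧ ¬ InV (i6 * i6 * g4) := by decide +kernel

theorem U_classes : ∀ x : A6, InU x → x * x = 1 → x ≠ 1 → ∃ z : A6, z * x = i6 * z := by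
  decide +kernel

theorem T_classes : ∀ x : A6, InU (x * i6) → x * twist x = 1 →
    (InV (x * i6) ∧ x * i6 ≠ 1 ∧ ∃ z : A6, z * x = xsw * twist z) ∨
      (∃ z : A6, z * x = i6 * twist z) := by
  decide +kernel

theorem V_products : ∀ v : A6, InV v → v ≠ 1 → ∃ u w : A6, InV u ∧ u ≠ 1 ∧ InV w ∧ w ≠ 1 ∧
    u * i6 * twist (w * i6) = v := by
  decide +kernel

theorem V_conj : ∀ x : A6, InU x → ∀ v : A6, InV v →
    InV (x * v * x⁻¹) ∧ InV (x * i6 * twist v * (x * i6)⁻¹) := by decide +kernel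

theorem cent_i6 : ∀ z : A6, z * i6 = i6 * z → z ^ 8 = 1 := by decide +kernel

theorem card_U : Nat.card {x : A6 // InU x} = 8 := by
  rw [Nat.card_eq_fintype_card]; decide +kernel

namespace Big

variable {G : Type u} [Group G] [Finite G] (D : Big G)

/-- The involution outside the centraliser of the three-cycle. -/
noncomputable def t : G := D.psi (0, i6, true)

theorem t_eq : D.t = D.e' i6 := by rw [t, D.psi_agree sw_facts.2.1, e'_i]

theorem psi_false (x : A6) : D.psi (0, x, false) = D.e x := D.psi_pair x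

theorem psi_true (x : A6) : D.psi (0, x, true) = D.e x * D.C.E wt := by
  simp only [psi, tri, if_true]
  rw [show D.C.j (0, 0, 0) = 1 from D.C.j_zero, one_mul]

theorem psi_conj {z x y : A6} (h : z * x = y * twist z) :
    IsConj (D.psi (0, x, true)) (D.psi (0, y, true)) := by
  refine isConj_iff.mpr ⟨D.psi (0, z, false), ?_⟩
  rw [mul_inv_eq_iff_eq_mul, psi_mul, psi_mul]
  simp only [tmul, Bool.false_eq_true, if_false, if_true, add_zero, neg_zero, Bool.false_xor,
    Bool.xor_false, h]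

theorem e_conj {z x y : A6} (h : z * x = y * z) : IsConj (D.e x) (D.e y) :=
  isConj_iff.mpr ⟨D.e z, by rw [mul_inv_eq_iff_eq_mul, ← map_mul, ← map_mul, h]⟩

theorem not_conj : ¬ IsConj (D.C.E wi) (D.C.E wsw) := by
  haveI : Fact (Nat.Prime 3) := ⟨Nat.prime_three⟩
  intro h
  obtain ⟨g, hg⟩ := isConj_iff.mp h.symm
  set Y := Subgroup.centralizer ({D.C.E wi} : Set G)
  have haY : D.a ∈ Y := by
    rw [Subgroup.mem_centralizer_singleton_iff, ← D.e_i]
    exact (D.e_comm_a i6).eq
  set A := Subgroup.zpowers (⟨D.a, haY⟩ : Y)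
  have ha1 : (⟨D.a, haY⟩ : Y) ^ 3 = 1 := Subtype.ext D.a_pow
  obtain ⟨P, hP⟩ := exists_sylow_of_normalizer A
    (fun x => ⟨1, by
      rw [pow_one]
      obtain ⟨k, hk⟩ := Subgroup.mem_zpowers_iff.mp x.2
      refine Subtype.ext ?_
      rw [Subgroup.coe_pow, ← hk, ← zpow_natCast, zpow_comm, zpow_natCast, ha1, one_zpow]
      rfl⟩) (by
    rintro x hx ⟨k, hk⟩
    -- an element of three-power order normalising `A` centralises it
    have hxa : (x : G) * D.a * (x : G)⁻¹ = D.a := by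
      have hm := (Subgroup.mem_normalizer_iff.mp hx ⟨D.a, haY⟩).mp (Subgroup.mem_zpowers _)
      obtain ⟨m, hm⟩ := Subgroup.mem_zpowers_iff.mp hm
      have hm' : (x : G) * D.a * (x : G)⁻¹ = D.a ^ m := (congrArg Subtype.val hm).symm
      obtain ⟨i, hi⟩ := D.zpow_eq m
      rw [hi] at hm'
      obtain rfl | rfl | rfl := (by decide : ∀ i : Fin 3, i = 0 ∨ i = 1 ∨ i = 2) i
      · rw [Fin.val_zero, pow_zero, conj_eq_one_iff, a, ← D.C.j_zero] at hm'
        exact absurd (D.C.j_injective hm') (by decide)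
      · simpa using hm'
      · exfalso
        have hit : ∀ n : ℕ, (x : G) ^ n * D.a * ((x : G) ^ n)⁻¹ = D.a ^ 2 ^ n := by
          intro n
          induction n with
          | zero => simp
          | succ n ih =>
            rw [pow_succ' (x : G) n, mul_inv_rev,
              show (x : G) * (x : G) ^ n * D.a * (((x : G) ^ n)⁻¹ * (x : G)⁻¹) =
                (x : G) * ((x : G) ^ n * D.a * ((x : G) ^ n)⁻¹) * (x : G)⁻¹ by group, ih,
              ← conj_pow, hm', ← pow_mul]
            congr 1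
            rw [pow_succ']
            rfl
        have h1 := hit (3 ^ k)
        rw [show (x : G) ^ 3 ^ k = 1 from congrArg Subtype.val hk, one_mul, inv_one, mul_one] at h1
        have h2 : 2 ^ 3 ^ k % 3 = 2 := by
          obtain ⟨j, hj⟩ := Odd.pow (n := k) (⟨1, by norm_num⟩ : Odd 3)
          rw [hj, pow_succ, pow_mul, Nat.mul_mod, Nat.pow_mod]
          norm_num
        rw [← Nat.div_add_mod (2 ^ 3 ^ k) 3, pow_add, pow_mul, D.a_pow, one_pow, one_mul, h2,
          pow_two, left_eq_mul] at h1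
        rw [a, ← D.C.j_zero] at h1
        exact absurd (D.C.j_injective h1) (by decide)
    obtain ⟨i, y, hy, he⟩ := D.decomp (Subgroup.mem_centralizer_singleton_iff.mpr
      (mul_inv_eq_iff_eq_mul.mp hxa))
    obtain ⟨z, rfl⟩ := D.exists_e_eq hy
    have hz8 : D.e z ^ 8 = 1 := by
      rw [← map_pow, cent_i6 z (D.e_injective ?_), map_one]
      rw [map_mul, map_mul, D.e_i]
      refine mul_left_cancel (a := D.a ^ (i : ℕ)) ?_
      have h1 := Subgroup.mem_centralizer_singleton_iff.mp x.2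
      rw [he, mul_assoc] at h1
      rw [h1, ← D.e_i, ← mul_assoc, ← mul_assoc, ((D.e_comm_a i6).pow_left _).eq]
    have hz3 : D.e z ^ 3 ^ (k + 1) = 1 := by
      have h1 : (x : G) ^ 3 ^ (k + 1) = 1 := by
        rw [pow_succ, pow_mul, show (x : G) ^ 3 ^ k = 1 from congrArg Subtype.val hk, one_pow]
      rw [he, ((D.e_comm_a z).pow_left _).mul_pow, ← pow_mul, pow_succ' 3 k, ← mul_assoc,
        mul_comm (i : ℕ) 3, mul_assoc, pow_mul, D.a_pow, one_pow, one_mul] at h1
      rw [pow_succ']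
      exact h1
    have hcop : Nat.Coprime 8 (3 ^ (k + 1)) := Nat.Coprime.pow_right _ (by norm_num)
    have := pow_gcd_eq_one.mpr ⟨hz8, hz3⟩
    rw [hcop, pow_one] at this
    refine Subgroup.mem_zpowers_iff.mpr ⟨((i : ℕ) : ℤ), Subtype.ext ?_⟩
    rw [zpow_natCast, Subgroup.coe_pow, he, this, mul_one])
  set y : G := g * D.C.j (0, 1, 1) * g⁻¹
  have hyY : y ∈ Y := by
    rw [Subgroup.mem_centralizer_singleton_iff, ← hg]
    show g * D.C.j (0, 1, 1) * g⁻¹ * (g * D.C.E wsw * g⁻¹) =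
      g * D.C.E wsw * g⁻¹ * (g * D.C.j (0, 1, 1) * g⁻¹)
    have hc : D.C.j (0, 1, 1) * D.C.E wsw = D.C.E wsw * D.C.j (0, 1, 1) :=
      ((D.C.E_comm_iff _ _).mpr (by rw [el_base]; exact sw_facts.2.2.1)).symm
    calc g * D.C.j (0, 1, 1) * g⁻¹ * (g * D.C.E wsw * g⁻¹)
        = g * (D.C.j (0, 1, 1) * D.C.E wsw) * g⁻¹ := by group
      _ = g * (D.C.E wsw * D.C.j (0, 1, 1)) * g⁻¹ := by rw [hc]
      _ = _ := by group
  have hy3 : (⟨y, hyY⟩ : Y) ^ 3 = 1 := Subtype.ext (by
    rw [Subgroup.coe_pow, conj_pow, D.C.J_pow _ (D.C.j_mem _)]; simp)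
  obtain ⟨Q, hQ⟩ := (IsPGroup.of_card (p := 3) (n := 0) (by simp) : IsPGroup 3 (⊥ : Subgroup Y))
    |>.exists_le_sylow
  obtain ⟨Q, hQ⟩ := (show IsPGroup 3 (Subgroup.zpowers (⟨y, hyY⟩ : Y)) from fun w => ⟨1, by
    rw [pow_one]
    obtain ⟨k, hk⟩ := Subgroup.mem_zpowers_iff.mp w.2
    refine Subtype.ext ?_
    rw [Subgroup.coe_pow, ← hk, ← zpow_natCast, zpow_comm, zpow_natCast, hy3, one_zpow]
    rfl⟩).exists_le_sylow
  obtain ⟨c, hc⟩ := MulAction.exists_smul_eq Y Q P
  have hm : c * ⟨y, hyY⟩ * c⁻¹ ∈ A := by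
    rw [← hP, ← hc]
    exact ⟨_, hQ (Subgroup.mem_zpowers _), rfl⟩
  obtain ⟨m, hm⟩ := Subgroup.mem_zpowers_iff.mp hm
  obtain ⟨i, hi⟩ := D.zpow_eq m
  have hm' : (c : G) * y * (c : G)⁻¹ = D.C.j (i, 0, 0) := by
    rw [← D.a_pow_eq, ← hi]; exact (congrArg Subtype.val hm).symm
  have hcj : IsConj (D.C.j (0, 1, 1)) (D.C.j (i, 0, 0)) :=
    (isConj_iff.mpr ⟨g, rfl⟩ : IsConj (D.C.j (0, 1, 1)) y).trans (isConj_iff.mpr ⟨c, hm'⟩)
  have := (D.C.isConj_j_iff _ _).mp hcj
  rw [sw_facts.2.2.2] at this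
  exact (by decide +kernel : ∀ i : Fin 3, 2 ≠ typ ((i, 0, 0) : V3)) i this

/-- The Sylow subgroup of the normaliser of the four-group. -/
noncomputable def T0 : Subgroup G := Subgroup.closure (D.psi '' {p | InT p})

theorem T_tmul : ∀ p q : Tri, InT p → InT q → InT (tmul p q) := by
  rintro ⟨i, x, ε⟩ ⟨j, y, δ⟩ ⟨rfl, hp⟩ ⟨rfl, hq⟩
  simp only at hp hq
  refine ⟨by cases ε <;> simp [tmul], ?_⟩
  cases ε <;> cases δ <;>
    simp only [tmul, Bool.false_eq_true, if_false, if_true, Bool.xor_false, Bool.xor_true,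
      Bool.not_false, Bool.not_true, Bool.true_xor, Bool.false_xor] at hp hq ⊢
  · exact U_closed _ hp _ hq
  · rw [mul_assoc]; exact U_closed _ hp _ hq
  · rw [mul_assoc, U_facts.1 _ hq, ← mul_assoc]; exact U_closed _ hp _ hq
  · have h1 : twist y = i6 * (y * i6) := by
      rw [← U_facts.1 _ hq, map_mul, U_facts.2.1, mul_assoc, U_facts.2.2.1, mul_one]
    rw [h1, ← mul_assoc]
    exact U_closed _ hp _ hq

theorem mem_T0 {g : G} : g ∈ D.T0 ↔ ∃ p, InT p ∧ D.psi p = g := by
  refine ⟨fun hg => ?_, fun ⟨p, hp, h⟩ => Subgroup.subset_closure ⟨p, hp, h⟩⟩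
  induction hg using Subgroup.closure_induction with
  | mem g hg => exact hg
  | one => exact ⟨(0, 1, false), by decide +kernel, D.psi_one⟩
  | mul g h _ _ hg hh =>
    obtain ⟨p, hp, rfl⟩ := hg
    obtain ⟨q, hq, rfl⟩ := hh
    exact ⟨_, T_tmul _ _ hp hq, (D.psi_mul p q).symm⟩
  | inv g _ hg =>
    obtain ⟨p, hp, rfl⟩ := hg
    have hpow : ∀ n : ℕ, ∃ q, InT q ∧ D.psi q = D.psi p ^ n := by
      intro n
      induction n with
      | zero => exact ⟨(0, 1, false), by decide +kernel, by rw [pow_zero, psi_one]⟩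
      | succ n ih =>
        obtain ⟨q, hq, h⟩ := ih
        exact ⟨_, T_tmul _ _ hq hp, by rw [pow_succ, ← h, psi_mul]⟩
    obtain ⟨n, hn⟩ := exists_pow_eq_of_mem_zpowers' (D.psi p)
    rw [hn]; exact hpow n
where
  exists_pow_eq_of_mem_zpowers' (g : G) : ∃ n : ℕ, g⁻¹ = g ^ n := by
    obtain ⟨n, hn⟩ := mem_powers_iff_mem_zpowers.mpr (inv_mem (Subgroup.mem_zpowers g))
    exact ⟨n, hn.symm⟩

theorem card_T0 : Nat.card D.T0 = 16 := by
  have h : Nat.card ({x : A6 // InU x} × Bool) = 16 := by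
    rw [Nat.card_prod, card_U, Nat.card_eq_fintype_card, Fintype.card_bool]
  rw [← h]
  refine (Nat.card_congr (Equiv.ofBijective (fun w : {x : A6 // InU x} × Bool =>
    (⟨D.e w.1.1 * (if w.2 then D.t else 1), ?_⟩ : D.T0)) ⟨?_, ?_⟩)).symm
  · cases w.2
    · exact D.mem_T0.mpr ⟨(0, w.1.1, false), ⟨rfl, w.1.2⟩, by simp [psi_false]⟩
    · refine D.mem_T0.mpr ⟨tmul (0, w.1.1, false) (0, i6, true),
        T_tmul _ _ ⟨rfl, w.1.2⟩ (by decide +kernel), ?_⟩
      rw [← psi_mul, psi_false]; rfl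
  · have hne : ∀ x y : A6, D.e x * D.t ≠ D.e y := by
      intro x y h
      have ht : Commute D.a D.t := by
        have : D.t = (D.e x)⁻¹ * D.e y := by rw [← h, inv_mul_cancel_left]
        rw [this]; exact (D.e_comm_a x).inv_right.mul_right (D.e_comm_a y)
      rw [t_eq, e'_i, a, Cfg.j] at ht
      have := (D.C.E_comm_iff _ _).mp ht.eq
      revert this; decide +kernel
    rintro ⟨⟨x, hx⟩, ε⟩ ⟨⟨y, hy⟩, δ⟩ h
    have h' := congrArg Subtype.val h
    cases ε <;> cases δ <;> simp only [Bool.false_eq_true, if_false, if_true, mul_one] at h'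
    · simp [D.e_injective h']
    · exact absurd h'.symm (hne _ _)
    · exact absurd h' (hne _ _)
    · simp [D.e_injective (mul_right_cancel h')]
  · rintro ⟨g, hg⟩
    obtain ⟨⟨i, x, ε⟩, ⟨rfl, hp⟩, rfl⟩ := D.mem_T0.mp hg
    simp only at hp
    cases ε
    · exact ⟨⟨⟨x, hp⟩, false⟩, Subtype.ext (by simp [psi_false])⟩
    · refine ⟨⟨⟨x * i6, hp⟩, true⟩, Subtype.ext ?_⟩
      show D.e (x * i6) * D.t = _
      rw [t, ← psi_false, psi_mul]
      simp only [tmul, Bool.false_eq_true, if_false, Bool.false_xor, add_zero]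
      rw [mul_assoc, U_facts.2.2.1, mul_one]

theorem psi_V_conj (p : Tri) (hp : InT p) {v : A6} (hv : InV v) :
    D.psi p * D.e v * (D.psi p)⁻¹ ∈ D.V := by
  obtain ⟨i, x, ε⟩ := p
  obtain ⟨rfl, hx⟩ := hp
  simp only at hx
  cases ε
  · exact ⟨_, (V_conj x hx v hv).1, by rw [psi_false, map_mul, map_mul, map_inv]⟩
  · refine ⟨x * twist v * x⁻¹, ?_, ?_⟩
    · have := (V_conj _ hx v hv).2
      rwa [mul_assoc x i6 i6, U_facts.2.2.1, mul_one] at this
    · rw [← psi_false, eq_mul_inv_iff_mul_eq, psi_mul, ← psi_false, psi_mul]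
      simp [tmul, mul_assoc]

theorem isConj_t : IsConj (D.C.E wi) D.t := by
  rw [t_eq, e'_i]
  exact isConj_iff.mpr ⟨D.C.r, D.E_rel shift_facts.2.2.2⟩

variable (hS : ∀ y ∈ D.L, InS y)

theorem class_cases {p : Tri} (hp : InT p) (h2 : D.psi p * D.psi p = 1) (h1 : D.psi p ≠ 1) :
    IsConj (D.C.E wi) (D.psi p) ∨ (IsConj (D.C.E wsw) (D.psi p) ∧
      p.2.2 = true ∧ InV (p.2.1 * i6) ∧ p.2.1 * i6 ≠ 1) := by
  obtain ⟨i, x, ε⟩ := p
  obtain ⟨rfl, hx⟩ := hp
  simp only at hx
  cases ε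
  · rw [psi_false] at h1 h2 ⊢
    obtain ⟨z, hz⟩ := U_classes x hx (D.e_injective (by rw [map_mul, h2, map_one]))
      (fun h => h1 (by rw [h, map_one]))
    exact Or.inl (D.e_i ▸ (D.e_conj hz).symm)
  · have hxx : x * twist x = 1 := by
      have h3 : tmul (0, x, true) (0, x, true) = (0, x * twist x, false) := by simp [tmul]
      rw [psi_mul, h3, psi_false] at h2
      exact D.e_injective (h2.trans (map_one _).symm)
    rcases T_classes x hx hxx with ⟨hv, hne, z, hz⟩ | ⟨z, hz⟩
    · exact Or.inr ⟨D.psi_agree sw_facts.1 ▸ (D.psi_conj hz).symm, rfl, hv, hne⟩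
    · exact Or.inl (D.isConj_t.trans (D.psi_conj hz).symm)

theorem conj_V_of_normalizer {g : G} (hg : g ∈ Subgroup.normalizer (D.T0 : Set G)) :
    g ∈ Subgroup.normalizer (D.V : Set G) := by
  refine Subgroup.mem_normalizer_fintype ?_
  rintro _ ⟨v, hv, rfl⟩
  show g * D.e v * g⁻¹ ∈ D.V
  by_cases hv1 : v = 1
  · rw [hv1, map_one, mul_one, mul_inv_cancel]; exact one_mem _
  obtain ⟨u, w, hu, hu1, hw, hw1, huw⟩ := V_products v hv hv1
  have himg : ∀ u : A6, InV u → u ≠ 1 → ∃ u', InV u' ∧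
      g * D.psi (0, u * i6, true) * g⁻¹ = D.psi (0, u' * i6, true) := by
    intro u hu hu1
    have hui : InT (0, u * i6, true) :=
      ⟨rfl, by simp only [if_true, mul_assoc, U_facts.2.2.1, mul_one]; exact Or.inl hu⟩
    have hsq : D.psi (0, u * i6, true) * D.psi (0, u * i6, true) = 1 := by
      rw [psi_mul, show tmul (0, u * i6, true) (0, u * i6, true) =
        (0, u * i6 * twist (u * i6), false) by simp [tmul],
        (by decide +kernel : ∀ u : A6, InV u → u * i6 * twist (u * i6) = 1) u hu, psi_one]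
    have hne : D.psi (0, u * i6, true) ≠ 1 := by
      intro h
      have h1 := D.psi_mul (0, u, false) (0, i6, true)
      rw [show tmul (0, u, false) (0, i6, true) = (0, u * i6, true) by simp [tmul], h, psi_false] at h1
      have h2 : Commute D.a D.t := by
        rw [show D.t = (D.e u)⁻¹ by exact eq_inv_of_mul_eq_one_right h1]
        exact (D.e_comm_a u).inv_right
      rw [t_eq, e'_i, a, Cfg.j] at h2
      have := (D.C.E_comm_iff _ _).mp h2.eq
      revert this; decide +kernel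
    have hB : IsConj (D.C.E wsw) (D.psi (0, u * i6, true)) := by
      rcases T_classes (u * i6) hui.2 ((by decide +kernel :
        ∀ u : A6, InV u → u * i6 * twist (u * i6) = 1) u hu) with ⟨-, -, z, hz⟩ | ⟨z, hz⟩
      · exact D.psi_agree sw_facts.1 ▸ (D.psi_conj hz).symm
      · exact absurd hz ((by decide +kernel : ∀ u : A6, InV u → u ≠ 1 → ∀ z : A6,
          z * (u * i6) ≠ i6 * twist z) u hu hu1 z)
    obtain ⟨p, hp, hpe⟩ := D.mem_T0.mp ((Subgroup.mem_normalizer_iff.mp hg _).mp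
      (D.mem_T0.mpr ⟨_, hui, rfl⟩))
    have hp2 : D.psi p * D.psi p = 1 := by
      rw [hpe]
      calc g * D.psi (0, u * i6, true) * g⁻¹ * (g * D.psi (0, u * i6, true) * g⁻¹)
          = g * (D.psi (0, u * i6, true) * D.psi (0, u * i6, true)) * g⁻¹ := by group
        _ = 1 := by rw [hsq, mul_one, mul_inv_cancel]
    have hp1 : D.psi p ≠ 1 := by rw [hpe, Ne, conj_eq_one_iff]; exact hne
    have hpc : IsConj (D.C.E wsw) (D.psi p) :=
      hB.trans (isConj_iff.mpr ⟨g, hpe.symm⟩)
    rcases D.class_cases hp hp2 hp1 with h | ⟨-, hε, hpv, -⟩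
    · exact absurd (h.trans hpc.symm) D.not_conj
    · obtain ⟨i, x, ε⟩ := p
      obtain ⟨rfl, -⟩ := hp
      subst hε
      exact ⟨x * i6, hpv, by rw [← hpe, mul_assoc x, U_facts.2.2.1, mul_one]⟩
  obtain ⟨u', hu', hue⟩ := himg u hu hu1
  obtain ⟨w', hw', hwe⟩ := himg w hw hw1
  have hprod : D.e v = D.psi (0, u * i6, true) * D.psi (0, w * i6, true) := by
    rw [psi_mul, ← psi_false, ← huw]; simp [tmul]
  refine ⟨u' * i6 * twist (w' * i6), (by decide +kernel : ∀ u w : A6, InV u → InV w →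
    InV (u * i6 * twist (w * i6))) u' w' hu' hw', ?_⟩
  rw [← psi_false, show ((0 : Fin 3), u' * i6 * twist (w' * i6), false) =
    tmul (0, u' * i6, true) (0, w' * i6, true) by simp [tmul], ← psi_mul, ← hue, ← hwe, hprod]
  group

include hS

theorem exists_sylow_T0 : ∃ P : Sylow 2 G, (P : Subgroup G) = D.T0 := by
  classical
  haveI : Fact (Nat.Prime 2) := ⟨Nat.prime_two⟩
  have hT2 : IsPGroup 2 D.T0 := IsPGroup.of_card (n := 4) (by rw [D.card_T0]; norm_num)
  refine exists_sylow_of_normalizer D.T0 hT2 fun g hg ⟨k, hk⟩ => ?_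
  set Q := Subgroup.zpowers g ⊔ D.T0
  have hQ2 : IsPGroup 2 Q := IsPGroup.to_sup_of_normal_right' (fun x => ⟨k, by
    obtain ⟨m, hm⟩ := Subgroup.mem_zpowers_iff.mp x.2
    refine Subtype.ext ?_
    rw [Subgroup.coe_pow, ← hm, ← zpow_natCast, zpow_comm, zpow_natCast, hk, one_zpow]
    rfl⟩) hT2 (Subgroup.zpowers_le.mpr hg)
  have hTN : D.T0 ≤ Subgroup.normalizer (D.V : Set G) := fun x hx =>
    D.conj_V_of_normalizer (Subgroup.le_normalizer hx)
  have hQN : Q ≤ Subgroup.normalizer (D.V : Set G) :=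
    sup_le (Subgroup.zpowers_le.mpr (D.conj_V_of_normalizer hg)) hTN
  have hX : Nat.card D.X ≤ 24 := by
    have hc : Nat.card ({v : A6 // InV v} × {s : A6 // InS s}) = 24 := by
      rw [Nat.card_eq_fintype_card]; decide +kernel
    have hmem : ∀ p : {v : A6 // InV v} × {s : A6 // InS s}, D.e p.1.1 * D.e' p.2.1 ∈ D.X := by
      rintro ⟨⟨v, hv⟩, ⟨s, hs⟩⟩
      refine mul_mem (D.V_le_X (D.e_mem_V hv)) ?_
      obtain ⟨i, ε, rfl⟩ := hs
      refine D.mem_L.mp (mul_mem (pow_mem D.c_mem_L _) ?_)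
      cases ε
      · exact one_mem _
      · exact D.mem_L.mpr D.i_mem_X
    rw [← hc]
    refine Nat.card_le_card_of_surjective (fun p => (⟨_, hmem p⟩ : D.X)) ?_
    rintro ⟨x, hx⟩
    obtain ⟨v, s, hv, hs, rfl⟩ := D.X_eq hS hx
    exact ⟨(⟨v, hv⟩, ⟨s, hs⟩), rfl⟩
  have hcard : Nat.card Q ≤ 16 := by
    set ρ : Q →* MulAut D.V := D.V.normalizerMonoidHom.comp (Subgroup.inclusion hQN)
    obtain ⟨n, hn⟩ := hQ2.exists_card_eq
    have h1 := ρ.ker.card_mul_index
    rw [Subgroup.index_ker] at h1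
    -- the kernel
    have hk8 : Nat.card ρ.ker ≤ 8 := by
      obtain ⟨m, hm⟩ := (hQ2.to_subgroup ρ.ker).exists_card_eq
      have hdvd : Nat.card ρ.ker ∣ Nat.card D.X := by
        rw [← Subgroup.card_map_of_injective Q.subtype_injective]
        refine Subgroup.card_dvd_of_le ?_
        rintro _ ⟨x, hx, rfl⟩
        show (x : G) ∈ Subgroup.centralizer (D.V : Set G)
        have hx' : Subgroup.inclusion hQN x ∈ D.V.normalizerMonoidHom.ker := hx
        rw [Subgroup.normalizerMonoidHom_ker] at hx'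
        exact hx'
      have h3 : 3 ∣ Nat.card D.X := by
        have := D.X.orderOf_dvd_natCard D.a_mem_X
        rwa [orderOf_eq_prime D.a_pow (fun h => by
          rw [a, ← D.C.j_zero] at h; exact absurd (D.C.j_injective h) (by decide))] at this
      have h3m := Nat.Coprime.mul_dvd_of_dvd_of_dvd
        (by rw [hm]; exact Nat.Coprime.pow_right _ (by norm_num)) h3 hdvd
      have hle := Nat.le_of_dvd Nat.card_pos h3m
      omega
    -- the image
    have hr2 : Nat.card ρ.range ≤ 2 := by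
      have hd6 : Nat.card (MulAut D.V) ∣ 6 := by
        let ι : MulAut D.V →* Equiv.Perm {v : D.V // v ≠ 1} :=
          { toFun := fun α => α.toEquiv.subtypeEquiv fun v => by simp
            map_one' := by ext; rfl
            map_mul' := fun α β => by ext; rfl }
        have hι : Function.Injective ι := by
          intro α β h
          ext v
          by_cases hv : v = 1
          · simp [hv]
          · exact congrArg (fun σ => (((σ : Equiv.Perm _) ⟨v, hv⟩).1 : G)) h
        have h3 : Nat.card {v : D.V // v ≠ 1} = 3 := by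
          have := Fintype.ofFinite D.V
          rw [Nat.card_eq_fintype_card, Fintype.card_subtype_compl, Fintype.card_subtype_eq,
            ← Nat.card_eq_fintype_card, D.card_V]
        have := Subgroup.card_dvd_of_injective ι hι
        rwa [Nat.card_perm, h3, show Nat.factorial 3 = 6 from rfl] at this
      have hdr : Nat.card ρ.range ∣ 6 := (Subgroup.card_subgroup_dvd_card _).trans hd6
      have hdQ : Nat.card ρ.range ∣ 2 ^ n :=
        ⟨Nat.card ρ.ker, by rw [← hn, ← h1, mul_comm]⟩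
      obtain ⟨j, -, hj⟩ := (Nat.dvd_prime_pow Nat.prime_two).mp hdQ
      rw [hj] at hdr ⊢
      have : j ≤ 1 := by
        by_contra hc
        have h4 : 4 ∣ 2 ^ j := ⟨2 ^ (j - 2), by
          rw [show 4 = 2 ^ 2 by norm_num, ← pow_add]; congr 1; omega⟩
        exact absurd (h4.trans hdr) (by norm_num)
      exact (pow_le_pow_right₀ (by norm_num) this).trans (by norm_num)
    rw [← h1]
    exact (Nat.mul_le_mul hk8 hr2).trans (by norm_num)
  have : D.T0 = Q := Subgroup.eq_of_le_of_card_ge le_sup_right (by rw [D.card_T0]; exact hcard)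
  rw [this]
  exact Subgroup.mem_sup_left (Subgroup.mem_zpowers g)

/-- The small case does not occur. -/
theorem not_small : False := by
  classical
  haveI : Fact (Nat.Prime 2) := ⟨Nat.prime_two⟩
  obtain ⟨P, hP⟩ := D.exists_sylow_T0 hS
  set U := Subgroup.closure (D.e '' {x | InU x})
  have hU : ∀ g, g ∈ U ↔ ∃ x, InU x ∧ D.e x = g := by
    intro g
    refine ⟨fun hg => ?_, fun ⟨x, hx, h⟩ => Subgroup.subset_closure ⟨x, hx, h⟩⟩
    induction hg using Subgroup.closure_induction with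
    | mem g hg => exact hg
    | one => exact ⟨1, by decide +kernel, map_one _⟩
    | mul g h _ _ hg hh =>
      obtain ⟨x, hx, rfl⟩ := hg
      obtain ⟨y, hy, rfl⟩ := hh
      exact ⟨_, U_closed _ hx _ hy, map_mul _ _ _⟩
    | inv g _ hg =>
      obtain ⟨x, hx, rfl⟩ := hg
      exact ⟨x⁻¹, (by decide +kernel : ∀ x : A6, InU x → InU x⁻¹) x hx, map_inv _ _⟩
  have hUc : Nat.card U = 8 := by
    rw [← card_U]
    refine (Nat.card_congr (Equiv.ofBijective (fun w : {x : A6 // InU x} =>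
      (⟨D.e w.1, (hU _).mpr ⟨w.1, w.2, rfl⟩⟩ : U)) ⟨?_, ?_⟩)).symm
    · intro v w e
      exact Subtype.ext (D.e_injective (congrArg Subtype.val e))
    · rintro ⟨g, hg⟩
      obtain ⟨x, hx, rfl⟩ := (hU g).mp hg
      exact ⟨⟨x, hx⟩, rfl⟩
  have hUT : U ≤ (P : Subgroup G) := fun g hg => by
    obtain ⟨x, hx, rfl⟩ := (hU g).mp hg
    rw [hP, mem_T0]
    exact ⟨(0, x, false), ⟨rfl, hx⟩, D.psi_false x⟩
  have hidx : U.index % 4 = 2 := by
    have h1 := U.card_mul_index
    have h2 := (P : Subgroup G).card_mul_index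
    rw [hUc] at h1
    rw [hP, D.card_T0] at h2
    obtain ⟨k, hk⟩ := Nat.odd_iff.2 (Nat.two_dvd_ne_zero.1 P.not_dvd_index)
    rw [hP] at hk
    omega
  set tB := D.psi (0, v1 * i6, true)
  have htB : tB = D.e v1 * D.t := by
    rw [t, ← psi_false, psi_mul]; simp [tmul, tB]
  have hpB : IsConj (D.C.E wsw) tB := by
    rcases T_classes (v1 * i6) (by decide +kernel) (by decide +kernel) with ⟨-, -, z, hz⟩ | ⟨z, hz⟩
    · exact D.psi_agree sw_facts.1 ▸ (D.psi_conj hz).symm
    · exact absurd hz ((by decide +kernel : ∀ z : A6, z * (v1 * i6) ≠ i6 * twist z) z)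
  have htB2 : tB * tB = 1 := by
    rw [show tB * tB = D.psi (0, v1 * i6 * twist (v1 * i6), false) by
      rw [psi_mul]; simp [tmul], show v1 * i6 * twist (v1 * i6) = 1 by decide +kernel, psi_one]
  have htB1 : tB ≠ 1 := by
    intro h
    rw [htB] at h
    have h2 : Commute D.a D.t := by
      rw [show D.t = (D.e v1)⁻¹ from eq_inv_of_mul_eq_one_right h]
      exact (D.e_comm_a v1).inv_right
    rw [t_eq, e'_i, a, Cfg.j] at h2
    have := (D.C.E_comm_iff _ _).mp h2.eq
    revert this; decide +kernel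
  have hfpf : ∀ x : G ⧸ U, tB • x ≠ x := by
    intro x
    induction x using QuotientGroup.induction_on with
    | H k =>
      intro he
      rw [MulAction.Quotient.smul_mk, smul_eq_mul, QuotientGroup.eq] at he
      have hm : k⁻¹ * tB * k ∈ U := by simpa [mul_assoc] using U.inv_mem he
      obtain ⟨x, hx, hxe⟩ := (hU _).mp hm
      have hx2 : D.e x * D.e x = 1 := by
        rw [hxe]
        calc k⁻¹ * tB * k * (k⁻¹ * tB * k) = k⁻¹ * (tB * tB) * k := by group
          _ = 1 := by rw [htB2]; group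
      obtain ⟨z, hz⟩ := U_classes x hx (D.e_injective (by rw [map_mul, hx2, map_one])) (fun h => by
        rw [h, map_one] at hxe
        exact htB1 (by
          calc tB = k * (k⁻¹ * tB * k) * k⁻¹ := by group
            _ = 1 := by rw [← hxe]; group))
      have hc : IsConj (D.e x) tB := isConj_iff.mpr ⟨k, by rw [hxe]; group⟩
      exact D.not_conj ((D.e_i ▸ (D.e_conj hz).symm : IsConj (D.C.E wi) (D.e x)).trans
        (hc.trans hpB.symm))
  haveI : Finite (G ⧸ U) := inferInstance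
  obtain ⟨N, hN, hmem⟩ := Fusion.Thompson.exists_index_two_of_fixedPointFree (G := G) (α := G ⧸ U)
    (by show U.index % 4 = 2; exact hidx) tB
    (orderOf_eq_prime (by rw [pow_two]; exact htB2) htB1) hfpf
  haveI := Subgroup.normal_of_index_eq_two hN
  have hK : ∀ x : A6, D.e x ∈ N := by
    haveI : IsSimpleGroup A6 := alternatingGroup.isSimpleGroup (by simp)
    set f : A6 →* G ⧸ N := (QuotientGroup.mk' N).comp D.e
    intro x
    rcases IsSimpleGroup.eq_bot_or_eq_top_of_normal f.ker inferInstance with h | h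
    · exfalso
      have h1 := Nat.card_le_card_of_injective f ((MonoidHom.ker_eq_bot_iff f).mp h)
      rw [show Nat.card (G ⧸ N) = 2 from hN] at h1
      have h2 : Nat.card {x : A6 // InU x} ≤ Nat.card A6 :=
        Nat.card_le_card_of_injective _ Subtype.val_injective
      rw [card_U] at h2
      omega
    · exact (QuotientGroup.eq_one_iff _).mp (MonoidHom.mem_ker.mp (h ▸ Subgroup.mem_top x))
  refine hmem ?_
  rw [htB, t_eq, e'_apply]
  exact mul_mem (hK v1) (Subgroup.Normal.conj_mem inferInstance _ (hK i6) _)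

end Big

end Cfsg.Agent.Lib.A9Split79
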