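import Cfsg.Agent.Lib.A9Norm79.ModelII
import Cfsg.Agent.Lib.Spectrum.CoxeterAlt
import Mathlib.GroupTheory.SpecificGroups.Alternating.Simple

/-!
# The alternating group on the six points outside the first block
-/

set_option autoImplicit false

namespace Cfsg.Agent.Lib.A9Split79

open Equiv A9Norm79 A9Norm79.Model

/-- The alternating group of degree six. -/
abbrev A6 := alternatingGroup (Fin 6)

def b6 : A6 := ⟨swap 0 1 * swap 1 2, Equiv.Perm.mem_alternatingGroup.mpr (by decide +kernel)⟩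
def c6 : A6 := ⟨swap 3 4 * swap 4 5, Equiv.Perm.mem_alternatingGroup.mpr (by decide +kernel)⟩
def i6 : A6 := ⟨swap 1 2 * swap 4 5, Equiv.Perm.mem_alternatingGroup.mpr (by decide +kernel)⟩
def q6 : A6 := ⟨swap 0 3 * (swap 1 4 * swap 4 2 * swap 2 5),
  Equiv.Perm.mem_alternatingGroup.mpr (by decide +kernel)⟩
def y6 : A6 := ⟨swap 0 3 * swap 4 5, Equiv.Perm.mem_alternatingGroup.mpr (by decide +kernel)⟩

/-- The outer transposition. -/
def t6 : Perm (Fin 6) := swap 1 2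

/-- The six points as a subtype of the nine. -/
def six9 : Fin 6 ≃ {x : Fin 9 // 3 ≤ (x : ℕ)} where
  toFun i := ⟨⟨i + 3, by omega⟩, by simp⟩
  invFun x := ⟨(x : Fin 9) - 3, by omega⟩
  left_inv i := by ext; simp
  right_inv x := by ext; simp only; omega

/-- The three points as a subtype of the nine. -/
def three9 : Fin 3 ≃ {x : Fin 9 // (x : ℕ) < 3} where
  toFun i := ⟨⟨i, by omega⟩, i.isLt⟩
  invFun x := ⟨(x : Fin 9), x.2⟩
  left_inv _ := rfl
  right_inv _ := rfl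

/-- Permutations of the six points as permutations of nine. -/
def emb6 : Perm (Fin 6) →* P9 := Perm.extendDomainHom six9

theorem emb_spec : emb6 b6 = cb ∧ emb6 c6 = cc ∧ emb6 i6 = el ((0, 0, 0), (1, 0)) ∧
    emb6 q6 = el ((0, 0, 0), (3, 3)) := by decide +kernel

theorem gen_facts : (b6 : A6) ^ 3 = 1 ∧ c6 ^ 3 = 1 ∧ q6 * q6 = i6 ∧ i6 * i6 = 1 ∧
    q6 * b6 * q6⁻¹ = c6 ∧ b6 ≠ 1 := by decide +kernel

/-- Moore's generators of the double three-cycle automorphism. -/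
def exGen : Fin 4 → A6 := ![b6 * c6,
  ⟨swap 1 3 * swap 2 4, Equiv.Perm.mem_alternatingGroup.mpr (by decide +kernel)⟩,
  ⟨swap 0 1 * swap 4 5, Equiv.Perm.mem_alternatingGroup.mpr (by decide +kernel)⟩,
  ⟨swap 1 2 * swap 3 4, Equiv.Perm.mem_alternatingGroup.mpr (by decide +kernel)⟩]

theorem exGen_rel : exGen 0 ^ 3 = 1 ∧ (∀ i : Fin 4, 1 ≤ (i : ℕ) → exGen i ^ 2 = 1) ∧
    (∀ i j : Fin 4, (j : ℕ) = i + 1 → (exGen i * exGen j) ^ 3 = 1) ∧
    (∀ i j : Fin 4, (i : ℕ) + 1 < j → (exGen i * exGen j) ^ 2 = 1) := by decide +kernel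

theorem class_three : ∀ B : A6, B ^ 3 = 1 → B ≠ 1 → ∃ σ : Perm (Fin 6),
    σ * (b6 : Perm (Fin 6)) = (B : Perm (Fin 6)) * σ ∨
      σ * ((b6 * c6 : A6) : Perm (Fin 6)) = (B : Perm (Fin 6)) * σ := by decide +kernel

theorem second_gen : ∀ C : A6, C * b6 = b6 * C → (∀ i : Fin 3, C ≠ b6 ^ (i : ℕ)) →
    (∃ g : A6, g * b6 = C * g ∨ g * b6⁻¹ = C * g) → C = c6 ∨ C = c6⁻¹ := by decide +kernel

theorem swap45 : (swap 4 5 : Perm (Fin 6)) * (b6 : Perm (Fin 6)) * (swap 4 5)⁻¹ = (b6 : Perm (Fin 6)) ∧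
    (swap 4 5 : Perm (Fin 6)) * ((c6⁻¹ : A6) : Perm (Fin 6)) * (swap 4 5)⁻¹ =
      (c6 : Perm (Fin 6)) := by decide +kernel

theorem cent_bc : ∀ x : A6, x * b6 = b6 * x → x * c6 = c6 * x →
    ∃ s t : Fin 3, x = b6 ^ (s : ℕ) * c6 ^ (t : ℕ) := by decide +kernel

theorem adjust_i : ∀ x y : Fin 3, ∃ s t : Fin 3,
    (b6 ^ (s : ℕ) * c6 ^ (t : ℕ)) * i6 * (b6 ^ (s : ℕ) * c6 ^ (t : ℕ))⁻¹ =
      i6 * (b6 ^ (x : ℕ) * c6 ^ (y : ℕ)) := by decide +kernel

theorem adjust_q : ∀ x y : Fin 3,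
    q6 * (b6 ^ (x : ℕ) * c6 ^ (y : ℕ)) * i6 = i6 * (q6 * (b6 ^ (x : ℕ) * c6 ^ (y : ℕ))) →
      b6 ^ (x : ℕ) * c6 ^ (y : ℕ) = 1 := by decide +kernel

theorem y_unique : ∀ x : A6, x * x = 1 → x ≠ 1 → (x * c6) ^ 3 = 1 → (x * i6) ^ 2 = 1 →
    x ≠ i6 → x = y6 := by decide +kernel

theorem y6_facts : y6 * y6 = 1 ∧ y6 ≠ 1 ∧ (y6 * c6) ^ 3 = 1 ∧ (y6 * i6) ^ 2 = 1 ∧
    y6 ≠ i6 := by decide +kernel

/-- Moore's generators of the six-point group in terms of the given elements. -/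
theorem moore_words : ∀ i : Fin 4, Spectrum.CoxeterAlt.altGen (k := 4) i =
    (((![[0], [0, 3, 0, 3], [0, 1, 2, 2], [0, 2, 2]] : Fin 4 → List (Fin 4)) i).map
      ![b6, c6, q6, y6]).prod.1 := by decide +kernel

/-- A homomorphism from Moore's generators. -/
theorem exists_hom_alt {k : ℕ} {M : Type*} [Group M] (x : Fin k → M)
    (h0 : ∀ i : Fin k, (i : ℕ) = 0 → x i ^ 3 = 1) (h2 : ∀ i : Fin k, 1 ≤ (i : ℕ) → x i ^ 2 = 1)
    (h3 : ∀ i j : Fin k, (j : ℕ) = i + 1 → (x i * x j) ^ 3 = 1)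
    (hc : ∀ i j : Fin k, (i : ℕ) + 1 < j → (x i * x j) ^ 2 = 1) :
    ∃ f : alternatingGroup (Fin (k + 2)) →* M, ∀ i, ∀ h,
      f ⟨Spectrum.CoxeterAlt.altGen i, h⟩ = x i := by
  have hrel : ∀ r ∈ Spectrum.CoxeterAlt.rels k, FreeGroup.lift x r = 1 := by
    rintro r (((⟨i, hi, rfl⟩ | ⟨i, hi, rfl⟩) | ⟨i, j, hij, rfl⟩) | ⟨i, j, hij, rfl⟩)
    · simpa using h0 i hi
    · simpa using h2 i hi
    · simpa using h3 i j hij
    · simpa using hc i j hij
  refine ⟨(PresentedGroup.toGroup hrel).comp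
    (Spectrum.CoxeterAlt.presentedAltEquiv k).symm.toMonoidHom, fun i h => ?_⟩
  have he : (Spectrum.CoxeterAlt.presentedAltEquiv k) (PresentedGroup.of i) =
      ⟨Spectrum.CoxeterAlt.altGen i, h⟩ := Subtype.ext (by
    simp [Spectrum.CoxeterAlt.presentedAltEquiv, Spectrum.CoxeterAlt.toPermAlt]; rfl)
  rw [MonoidHom.comp_apply, ← he]
  simp

/-- The automorphism moving the three-cycle to the double one. -/
theorem exists_exceptional : ∃ ε : A6 ≃* A6, ε b6 = b6 * c6 := by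
  obtain ⟨f, hf⟩ := exists_hom_alt (k := 4) exGen
    (fun i hi => by rw [show i = 0 from Fin.ext hi]; exact exGen_rel.1)
    exGen_rel.2.1 exGen_rel.2.2.1 exGen_rel.2.2.2
  have hb : f b6 = b6 * c6 := by
    have hm : Spectrum.CoxeterAlt.altGen (k := 4) 0 ∈ alternatingGroup (Fin (4 + 2)) :=
      Equiv.Perm.mem_alternatingGroup.mpr (by decide +kernel)
    rw [show b6 = (⟨Spectrum.CoxeterAlt.altGen (k := 4) 0, hm⟩ : A6) from
      Subtype.ext (show (b6 : Perm (Fin 6)) = Spectrum.CoxeterAlt.altGen (k := 4) 0 by decide +kernel)]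
    exact (hf 0 hm).trans rfl
  haveI : IsSimpleGroup A6 := alternatingGroup.isSimpleGroup (by simp)
  have hinj : Function.Injective f := by
    rw [← MonoidHom.ker_eq_bot_iff]
    rcases IsSimpleGroup.eq_bot_or_eq_top_of_normal f.ker inferInstance with h | h
    · exact h
    · exfalso
      have h1 : f b6 = 1 := MonoidHom.mem_ker.mp (h ▸ Subgroup.mem_top b6)
      rw [hb] at h1
      revert h1; decide +kernel
  exact ⟨MulEquiv.ofBijective f (Finite.injective_iff_bijective.mp hinj), hb⟩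

/-- Homomorphisms from `A6` agree when they agree on the four generators. -/
theorem hom_ext_six {M : Type*} [Group M] {f g : A6 →* M} (hb : f b6 = g b6) (hc : f c6 = g c6)
    (hq : f q6 = g q6) (hy : f y6 = g y6) : f = g := by
  set e := Spectrum.CoxeterAlt.presentedAltEquiv 4
  have h : f.comp e.toMonoidHom = g.comp e.toMonoidHom := by
    refine PresentedGroup.ext fun i => ?_
    have he : e (PresentedGroup.of i) =
        (((![[0], [0, 3, 0, 3], [0, 1, 2, 2], [0, 2, 2]] : Fin 4 → List (Fin 4)) i).map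
          ![b6, c6, q6, y6]).prod := Subtype.ext (by
      rw [← moore_words i]
      simp [e, Spectrum.CoxeterAlt.presentedAltEquiv, Spectrum.CoxeterAlt.toPermAlt]; rfl)
    simp only [MonoidHom.comp_apply, MulEquiv.coe_toMonoidHom, he, map_list_prod, List.map_map]
    congr 1
    refine List.map_congr_left fun j _ => ?_
    fin_cases j <;> simp [hb, hc, hq, hy]
  ext x
  simpa using DFunLike.congr_fun h (e.symm x)

end Cfsg.Agent.Lib.A9Split79
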