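import Cfsg.Agent.Lib.A9Split79.Alt

/-!
# The normaliser of the three-cycle as triples
-/

set_option autoImplicit false

namespace Cfsg.Agent.Lib.A9Split79

open Equiv A9Norm79 A9Norm79.Model A9Norm79.ModelII

universe u

/-- The normaliser of the three-cycle in coordinates. -/
abbrev Tri := Fin 3 × A6 × Bool

/-- The outer automorphism of the six-point group. -/
def twist : A6 ≃* A6 := MulAut.conjNormal t6

/-- The product of two triples. -/
def tmul (p q : Tri) : Tri :=
  (p.1 + (if p.2.2 then -q.1 else q.1), p.2.1 * (if p.2.2 then twist q.2.1 else q.2.1),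
    p.2.2 ^^ q.2.2)

/-- The element of a triple. -/
def tri {M : Type*} [Group M] (A : Fin 3 → M) (f : A6 →* M) (T : M) (p : Tri) : M :=
  A p.1 * f p.2.1 * (if p.2.2 then T else 1)

theorem tri_mul {M : Type*} [Group M] {A : Fin 3 → M} {f : A6 →* M} {T : M}
    (hA : ∀ i j, A i * A j = A (i + j)) (hAf : ∀ i x, A i * f x = f x * A i)
    (hTA : ∀ i, T * A i = A (-i) * T) (hTf : ∀ x, T * f x = f (twist x) * T) (hT : T * T = 1)
    (p q : Tri) : tri A f T p * tri A f T q = tri A f T (tmul p q) := by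
  obtain ⟨i, x, ε⟩ := p
  obtain ⟨j, y, δ⟩ := q
  cases ε
  · simp only [tri, tmul, Bool.false_eq_true, if_false, Bool.false_xor, mul_one, map_mul, ← hA]
    calc A i * f x * (A j * f y * (if δ then T else 1))
        = A i * (f x * A j) * f y * (if δ then T else 1) := by group
      _ = A i * (A j * f x) * f y * (if δ then T else 1) := by rw [hAf]
      _ = _ := by group
  · simp only [tri, tmul, if_true, Bool.true_xor, map_mul, ← hA]
    calc A i * f x * T * (A j * f y * (if δ then T else 1))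
        = A i * f x * (T * A j) * f y * (if δ then T else 1) := by group
      _ = A i * f x * (A (-j) * T) * f y * (if δ then T else 1) := by rw [hTA]
      _ = A i * (f x * A (-j)) * (T * f y) * (if δ then T else 1) := by group
      _ = A i * (A (-j) * f x) * (f (twist y) * T) * (if δ then T else 1) := by rw [hTf, hAf]
      _ = A i * A (-j) * (f x * f (twist y)) * (T * (if δ then T else 1)) := by group
      _ = _ := by cases δ <;> simp [hT]

/-- The permutation of a triple. -/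
def phi : Tri → P9 :=
  tri (fun i => jel (i, 0, 0)) (emb6.comp (alternatingGroup (Fin 6)).subtype) (el wt)

theorem emb_comm : ∀ x : A6, ∀ i : Fin 3, jel (i, 0, 0) * emb6 x = emb6 x * jel (i, 0, 0) := by
  decide +kernel

theorem emb_twist : ∀ x : A6, el wt * emb6 x = emb6 (twist x) * el wt := by decide +kernel

theorem wt_jel : ∀ i : Fin 3, el wt * jel (i, 0, 0) = jel (-i, 0, 0) * el wt ∧
    mulW wt ((i, 0, 0), (0, 0)) = mulW ((-i, 0, 0), (0, 0)) wt := by decide +kernel

theorem fst_add : ∀ i j : Fin 3, ((i, 0, 0) : V3) + (j, 0, 0) = (i + j, 0, 0) := by decide +kernel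

theorem phi_mul (p q : Tri) : phi p * phi q = phi (tmul p q) :=
  tri_mul (f := emb6.comp (alternatingGroup (Fin 6)).subtype)
    (fun i j => by rw [jel_add, fst_add]) (fun i x => emb_comm x i) (fun i => (wt_jel i).1)
    emb_twist wt_facts.2.1 p q

theorem head_facts : ∀ i j : Fin 3, ∀ ε δ : Bool,
    (∀ k : Fin 3, (jel (i, 0, 0) * (if ε then el wt else 1)) ⟨k, by omega⟩ =
      (jel (j, 0, 0) * (if δ then el wt else 1)) ⟨k, by omega⟩) → i = j ∧ ε = δ := by
  decide +kernel

theorem emb_fix : ∀ x : A6, ∀ k : Fin 3, emb6 x ⟨k, by omega⟩ = ⟨k, by omega⟩ := by decide +kernel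

theorem head_lt : ∀ ε : Bool, ∀ k : Fin 3, ∃ l : Fin 3,
    (if ε then el wt else 1) (⟨k, by omega⟩ : Fin 9) = ⟨l, by omega⟩ := by decide +kernel

theorem phi_injective : Function.Injective phi := by
  rintro ⟨i, x, ε⟩ ⟨j, y, δ⟩ h
  simp only [phi, tri] at h
  obtain ⟨rfl, rfl⟩ := head_facts i j ε δ fun k => by
    have := Equiv.ext_iff.mp h ⟨k, by omega⟩
    obtain ⟨l, hl⟩ := head_lt ε k
    obtain ⟨m, hm⟩ := head_lt δ k
    simp only [Perm.mul_apply, MonoidHom.comp_apply, Subgroup.subtype_apply] at this ⊢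
    rw [hl, hm, emb_fix, emb_fix] at this
    rw [hl, hm]
    exact this
  have hx : emb6 (x : Perm (Fin 6)) = emb6 (y : Perm (Fin 6)) := mul_left_cancel (mul_right_cancel h)
  rw [Subtype.ext (Perm.extendDomainHom_injective six9 hx)]

/-- The indices stabilising the first block. -/
theorem stab_decomp : ∀ k : Fin 4 × Fin 6, (∀ x : Fin 3, (mel k ⟨x, by omega⟩ : ℕ) < 3) →
    ∃ m : Fin 4, ∃ ε : Bool, mulW (powW wq m) (if ε then wt else oneW) = ((0, 0, 0), k) := by
  decide +kernel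

theorem jel_low : ∀ i : V3, ∀ x : Fin 9, ((jel i x : ℕ) < 3) ↔ (x : ℕ) < 3 := by decide +kernel

theorem phi_low (p : Tri) (k : Fin 3) : (phi p ⟨k, by omega⟩ : ℕ) < 3 := by
  obtain ⟨l, hl⟩ := head_lt p.2.2 k
  simp only [phi, tri, Perm.mul_apply, MonoidHom.comp_apply, Subgroup.subtype_apply]
  rw [hl, emb_fix, jel_low]
  exact l.isLt

theorem split_W : ∀ v : V3, ∀ k : Fin 4 × Fin 6,
    mulW (mulW (mulW ((v.1, 0, 0), (0, 0)) ((0, v.2.1, 0), (0, 0))) ((0, 0, v.2.2), (0, 0)))
      ((0, 0, 0), k) = (v, k) := by decide +kernel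

theorem emb_el : emb6 b6 = el ((0, 1, 0), (0, 0)) ∧ emb6 c6 = el ((0, 0, 1), (0, 0)) ∧
    emb6 q6 = el wq := by decide +kernel

theorem jel_axis : ∀ i : Fin 3, jel (0, 1, 0) ^ (i : ℕ) = jel (0, i, 0) ∧
    jel (0, 0, 1) ^ (i : ℕ) = jel (0, 0, i) := by decide +kernel

namespace Big

variable {G : Type u} [Group G] [Finite G] (D : Big G)

/-- The embedding of the six-point group. -/
noncomputable def e : A6 →* G := D.exists_e.choose

theorem e_injective : Function.Injective D.e := D.exists_e.choose_spec.1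
theorem e_range : D.e.range = D.K := D.exists_e.choose_spec.2.1
theorem e_b : D.e b6 = D.C.j (0, 1, 0) := D.exists_e.choose_spec.2.2.1
theorem e_c : D.e c6 = D.C.j (0, 0, 1) := D.exists_e.choose_spec.2.2.2.1
theorem e_i : D.e i6 = D.C.E wi := D.exists_e.choose_spec.2.2.2.2.1
theorem e_q : D.e q6 = D.C.E wq := D.exists_e.choose_spec.2.2.2.2.2

theorem e_mem (x : A6) : D.e x ∈ D.K := D.e_range ▸ ⟨x, rfl⟩

theorem exists_e_eq {k : G} (hk : k ∈ D.K) : ∃ x, D.e x = k := by
  rwa [← D.e_range] at hk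

theorem a_pow_eq (i : Fin 3) : D.a ^ (i : ℕ) = D.C.j (i, 0, 0) := D.C.j_pow (jel_pow_fst i)

theorem j_comm_e (i : Fin 3) (x : A6) : D.C.j (i, 0, 0) * D.e x = D.e x * D.C.j (i, 0, 0) := by
  rw [← D.a_pow_eq]
  exact ((D.comm_a (D.e_mem x)).pow_left _).eq

theorem T_mul_j (i : Fin 3) : D.C.E wt * D.C.j (i, 0, 0) = D.C.j (-i, 0, 0) * D.C.E wt := by
  rw [Cfg.j, ← Cfg.E_mulW, (wt_jel i).2, Cfg.E_mulW]
  rfl

theorem T_sq : D.C.E wt * D.C.E wt = 1 := by
  rw [← pow_two, D.C.E_pow_eq_one_iff, pow_two]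
  exact wt_facts.2.1

theorem T_mul_e (x : A6) : D.C.E wt * D.e x = D.e (twist x) * D.C.E wt := by
  set f := (MulAut.conj (D.C.E wt)).toMonoidHom.comp D.e
  set g := D.e.comp twist.toMonoidHom
  have hfv : ∀ z, f z = D.C.E wt * D.e z * (D.C.E wt)⁻¹ := fun z => rfl
  suffices h : f = g by
    have := DFunLike.congr_fun h x
    rw [hfv] at this
    exact mul_inv_eq_iff_eq_mul.mp this
  have hb : twist b6 = b6⁻¹ := Subtype.ext six_side.2.2.2.1
  have hc : twist c6 = c6 := Subtype.ext six_side.2.2.2.2.1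
  have hi : twist i6 = i6 := Subtype.ext six_side.2.2.2.2.2
  refine hom_ext_six ?_ ?_ ?_ ?_
  · rw [hfv]
    show _ = D.e (twist b6)
    rw [hb, map_inv, D.e_b]
    exact D.conj_inv _ conj_wt.1
  · rw [hfv]
    show _ = D.e (twist c6)
    rw [hc, D.e_c]
    exact D.conj_eq conj_wt.2.1
  · rw [hfv]
    show _ = D.e (twist q6)
    obtain ⟨z, hz, hz6⟩ := conj_wt.2.2.2
    rw [show twist q6 = b6 ^ (z.1 : ℕ) * c6 ^ (z.2.1 : ℕ) * q6 ^ (z.2.2 : ℕ) from Subtype.ext hz6,
      map_mul, map_mul, map_pow, map_pow, map_pow, D.e_b, D.e_c, D.e_q,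
      D.E_rel (u := wt) (v := wq) (w := mulW (mulW (powW ((0, 1, 0), (0, 0)) (z.1 : ℕ))
        (powW ((0, 0, 1), (0, 0)) (z.2.1 : ℕ))) (powW wq (z.2.2 : ℕ))) (by
          rw [el_mulW, el_mulW, el_powW, el_powW, el_powW, el_base, el_base, jel_gen.2.1,
            jel_gen.2.2.1]
          exact hz)]
    simp only [Cfg.E_mulW, Cfg.E_powW, Cfg.j]
  · rw [hfv]
    set Y := D.C.E wt * D.e y6 * (D.C.E wt)⁻¹ with hY
    have hpow : ∀ (n : ℕ) (z : A6), (f z) ^ n = f (z ^ n) := fun n z => (map_pow f z n).symm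
    have hmem : Y ∈ D.K := by
      refine D.mem_of_pow_four ?_ ?_
      · rw [Subgroup.mem_centralizer_singleton_iff]
        have h1 := D.T_mul_j 2
        have h2 := D.j_comm_e 2 y6
        have h3 := D.T_mul_j 1
        show Y * D.C.j (1, 0, 0) = D.C.j (1, 0, 0) * Y
        calc Y * D.C.j (1, 0, 0)
            = D.C.E wt * D.e y6 * (D.C.E wt)⁻¹ * (D.C.j (1, 0, 0) * D.C.E wt) *
                (D.C.E wt)⁻¹ := by rw [hY]; group
          _ = D.C.E wt * D.e y6 * (D.C.E wt)⁻¹ * (D.C.E wt * D.C.j (2, 0, 0)) *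
                (D.C.E wt)⁻¹ := by rw [h1]; rfl
          _ = D.C.E wt * (D.e y6 * D.C.j (2, 0, 0)) * (D.C.E wt)⁻¹ := by group
          _ = D.C.E wt * D.C.j (2, 0, 0) * D.e y6 * (D.C.E wt)⁻¹ := by rw [← h2]; group
          _ = _ := by rw [h1, hY]; group; rfl
      · show f y6 ^ 4 = 1
        rw [hpow, show y6 ^ 4 = 1 by decide +kernel, map_one]
    obtain ⟨z, hz⟩ := D.exists_e_eq hmem
    have hfy : f y6 = D.e z := hz.symm
    have hfc : f c6 = D.e c6 := by
      rw [hfv, D.e_c]; exact D.conj_eq conj_wt.2.1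
    have hfi : f i6 = D.e i6 := by
      rw [hfv, D.e_i]; exact D.E_rel conj_wt.2.2.1
    have hfinj : Function.Injective f := (MulAut.conj _).injective.comp D.e_injective
    have hzy : z = y6 := by
      refine y_unique z (D.e_injective ?_) (fun h => y6_facts.2.1 (hfinj ?_)) (D.e_injective ?_)
        (D.e_injective ?_) (fun h => y6_facts.2.2.2.2 (hfinj ?_))
      · rw [map_mul, ← hfy, ← map_mul, y6_facts.1, map_one, map_one]
      · rw [hfy, h, map_one, map_one]
      · rw [map_pow, map_mul, ← hfy, ← hfc, ← map_mul, ← map_pow, y6_facts.2.2.1, map_one, map_one]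
      · rw [map_pow, map_mul, ← hfy, ← hfi, ← map_mul, ← map_pow, y6_facts.2.2.2.1, map_one,
          map_one]
      · rw [hfy, h, hfi]
    show Y = D.e (twist y6)
    rw [← hz, hzy, show twist y6 = y6 by decide +kernel]

/-- The element of `G` of a triple. -/
noncomputable def psi : Tri → G := tri (fun i => D.C.j (i, 0, 0)) D.e (D.C.E wt)

theorem psi_mul (p q : Tri) : D.psi p * D.psi q = D.psi (tmul p q) :=
  tri_mul (fun i j => D.C.j_mul (by rw [jel_add, fst_add])) D.j_comm_e D.T_mul_j D.T_mul_e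
    D.T_sq p q

/-- A product in the model holds in the group. -/
theorem psi_rel {p q r : Tri} (h : phi p * phi q = phi r) : D.psi p * D.psi q = D.psi r := by
  rw [psi_mul]
  exact congrArg D.psi (phi_injective ((phi_mul p q).symm.trans h))

theorem psi_one : D.psi (0, 1, false) = 1 := by
  simp only [psi, tri, map_one, Bool.false_eq_true, if_false, mul_one]
  exact D.C.j_zero

theorem phi_one : phi (0, 1, false) = 1 := by decide +kernel

theorem psi_pow (p : Tri) : ∀ n : ℕ, ∃ r, phi p ^ n = phi r ∧ D.psi p ^ n = D.psi r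
  | 0 => ⟨(0, 1, false), by rw [pow_zero, phi_one], by rw [pow_zero, psi_one]⟩
  | n + 1 => by
    obtain ⟨r, h1, h2⟩ := psi_pow p n
    exact ⟨tmul r p, by rw [pow_succ, h1, phi_mul], by rw [pow_succ, h2, psi_mul]⟩

theorem psi_pow_eq_one {p : Tri} {n : ℕ} (h : phi p ^ n = 1) : D.psi p ^ n = 1 := by
  obtain ⟨r, h1, h2⟩ := D.psi_pow p n
  rw [h2, phi_injective (h1.symm.trans (h.trans phi_one.symm)), psi_one]

theorem psi_mul_pow {p q : Tri} {n : ℕ} (h : (phi p * phi q) ^ n = 1) :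
    (D.psi p * D.psi q) ^ n = 1 := by
  rw [psi_mul]
  exact D.psi_pow_eq_one (by rw [← phi_mul]; exact h)

/-- The triples agree with the configuration. -/
theorem psi_agree {p : Tri} {w : W} (h : phi p = el w) : D.psi p = D.C.E w := by
  obtain ⟨v, k⟩ := w
  obtain ⟨m, ε, hk⟩ := stab_decomp k fun x => by
    have := phi_low p x
    rw [h, el, Perm.mul_apply, jel_low] at this
    exact this
  set p₀ : Tri := (v.1, b6 ^ (v.2.1 : ℕ) * c6 ^ (v.2.2 : ℕ) * q6 ^ (m : ℕ), ε)
  have hw : (v, k) = mulW (mulW (mulW ((v.1, 0, 0), (0, 0)) ((0, v.2.1, 0), (0, 0)))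
      ((0, 0, v.2.2), (0, 0))) (mulW (powW wq m) (if ε then wt else oneW)) := by
    rw [hk, split_W]
  have hphi : phi p₀ = el (v, k) := by
    rw [hw]
    simp only [el_mulW, el_powW, el_base, phi, tri, p₀, map_mul, map_pow, Subgroup.coe_mul,
      SubmonoidClass.coe_pow]
    simp only [MonoidHom.comp_apply, Subgroup.subtype_apply, emb_el, el_base, jel_axis]
    cases ε <;> simp [el_oneW, mul_assoc]
  rw [phi_injective (h.trans hphi.symm), hw]
  simp only [Cfg.E_mulW, Cfg.E_powW, psi, tri, p₀, map_mul, map_pow, D.e_b, D.e_c, D.e_q]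
  rw [D.C.j_pow (jel_axis _).1, D.C.j_pow (jel_axis _).2]
  cases ε <;> simp [Cfg.E_oneW, mul_assoc, Cfg.j]

end Big

end Cfsg.Agent.Lib.A9Split79
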